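import Cfsg.Agent.Lib.LeechOut.StabOut
import Cfsg.Prelude.Def_Spor_Conway

/-!
Preparations for the outer automorphism groups.
-/

set_option autoImplicit false

namespace Cfsg.Agent.Lib.LeechOut

open Cfsg Equiv Cfsg.Agent.Lib.Compute Cfsg.Agent.Lib.Leech MulAction

theorem card_out_eq_one {G : Type*} [Group G] (h : ∀ φ : MulAut G, φ ∈ Cfsg.Inn G) :
    Nat.card (Cfsg.Out G) = 1 := by
  show (Cfsg.Inn G).index = 1
  rw [(Subgroup.eq_top_iff' (Cfsg.Inn G)).2 h, Subgroup.index_top]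

/-- The stabiliser inside the automorphism group as a subgroup of the permutations. -/
def stabEquiv (v : ↥leechLattice) :
    ↥(stabilizer ↥Co0 v) ≃* ↥(Co0 ⊓ stabilizer (Equiv.Perm ↥leechLattice) v) where
  toFun g := ⟨(g : ↥Co0), (g : ↥Co0).2, g.2⟩
  invFun g := ⟨⟨g.1, g.2.1⟩, g.2.2⟩
  left_inv _ := rfl
  right_inv _ := rfl
  map_mul' _ _ := rfl

theorem mem_of_word {v : ↥leechLattice} {l : List ℤ} (hl : listOf (v : GolayPt → ℤ) = l)
    {w : List Lt} (hw : w.all Lt.good = true) (h : fixesW w l = true) : el w ∈ stabilizer ↥Co0 v :=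
  (smul_eq_iff_fixesW hw v hl).2 h

theorem conj_map {G : Type*} [Group G] (φ : MulAut G) (g : G) :
    ∃ ψ : G →* G, Function.Injective ψ ∧ ∀ z, ψ z = g * φ z * g⁻¹ :=
  ⟨((MulAut.conj g) * φ : MulAut G).toMonoidHom, (MulAut.conj g * φ).injective, fun _ => rfl⟩

/-- A monomial letter without signs fixing the last point is a permutation fixing it. -/
theorem exists_perm_letter {e : MGen} (h : genGood e = true) (hm : e.2.2 = 0) (h23 : app e.1 23 = 23) :
    ∃ π : ↥(stabilizer ↥M24 pT), el [.mono e] = permHom π.1 := by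
  have h1 := h
  simp only [genGood, Bool.and_eq_true] at h1
  have hr := repr_toPerm_of_genOk h1.1.1.1
  have hmem : toGP (toPerm 24 e.1) ∈ M24 := toGP_mem_M24_of_presOk hr h1.1.2
  refine ⟨⟨⟨_, hmem⟩, ?_⟩, el_mono_perm h hm rfl⟩
  show toGP (toPerm 24 e.1) pT = pT
  apply enc.injective
  apply Fin.ext
  rw [enc_toGP, pT, Equiv.apply_symm_apply, hr]
  exact h23

end Cfsg.Agent.Lib.LeechOut
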