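import Cfsg.Agent.Lib.Leech.CrossSub
import Cfsg.Agent.Lib.LeechOut.Data

/-!
An automorphism of the lattice given by a matrix with entries in eighths.
-/

set_option autoImplicit false

namespace Cfsg.Agent.Lib.LeechOut

open Cfsg Cfsg.Agent.Lib.Compute Cfsg.Agent.Lib.Leech

/-- Entry of a matrix given by rows. -/
def entry (R : List (List ℤ)) (p q : GolayPt) : ℤ := (R.getD (enc p) []).getD (enc q) 0

/-- The linear map of a matrix. -/
def tLin (R : List (List ℤ)) : (GolayPt → ℤ) →+ (GolayPt → ℤ) where
  toFun x := fun p => ∑ q, entry R p q * x q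
  map_zero' := funext fun p => by simp
  map_add' x y := funext fun p => by simp [mul_add, Finset.sum_add_distrib]

/-- Membership test. -/
def latOk (y : GolayPt → ℤ) : Bool :=
  let p : ℕ := (y none % 2).toNat
  let m : ℕ := Nat.ofBits fun i : Fin 24 => decide (y (enc.symm i) % 4 = res p true)
  inCode m && decide (p < 2) && decide (∀ q, y q % 4 = res p (m.testBit (enc q))) &&
    decide ((∑ q, y q) % 8 = 4 * (p : ℤ))

theorem mem_of_latOk {y : GolayPt → ℤ} (h : latOk y = true) : y ∈ leechLattice := by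
  simp only [latOk, Bool.and_eq_true, decide_eq_true_eq] at h
  obtain ⟨⟨⟨h1, h2⟩, h3⟩, h4⟩ := h
  exact lattice_of_form h2 (mem_codeList_of_inCode h1) h3 h4

/-- The image is eight times a lattice vector. -/
def eighthOk (z : GolayPt → ℤ) : Bool :=
  decide (∀ q, (8 : ℤ) ∣ z q) && latOk fun q => z q / 8

theorem exists_of_eighthOk {z : GolayPt → ℤ} (h : eighthOk z = true) :
    ∃ y ∈ leechLattice, (8 : ℤ) • y = z := by
  simp only [eighthOk, Bool.and_eq_true, decide_eq_true_eq] at h
  exact ⟨_, mem_of_latOk h.2, funext fun q => by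
    simp only [Pi.smul_apply, smul_eq_mul]
    exact Int.mul_ediv_cancel' (h.1 q)⟩

theorem rot_mem_ok : ∀ b : Bool, eighthOk (tLin (if b then tiRows else tRows)
      Cfsg.Agent.Lib.ThreeTransp.oddVec) = true ∧
    (∀ i : GolayPt, eighthOk (tLin (if b then tiRows else tRows)
      (Cfsg.Agent.Lib.ThreeTransp.pairFun i none)) = true) ∧
    (∀ e ∈ golayBasis, eighthOk (tLin (if b then tiRows else tRows)
      fun p : GolayPt => if p ∈ setOf24 e.1 then (2 : ℤ) else 0) = true) := by
  decide +kernel

theorem rot_transpose : ∀ p q, entry tRows p q = entry tiRows q p := by decide +kernel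

theorem rot_comp : ∀ (b : Bool) (i p : GolayPt),
    tLin (if b then tiRows else tRows) (tLin (if b then tRows else tiRows) (Pi.single i 1)) p
      = if p = i then 64 else 0 := by
  decide +kernel

theorem rot_comp_apply (b : Bool) (x : GolayPt → ℤ) :
    tLin (if b then tiRows else tRows) (tLin (if b then tRows else tiRows) x) = (64 : ℤ) • x := by
  have hx : x = ∑ i, x i • (Pi.single i (1 : ℤ) : GolayPt → ℤ) := by
    funext p
    simp [Finset.sum_apply, Pi.single_apply]
  conv_lhs => rw [hx]
  rw [map_sum, map_sum]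
  funext p
  simp only [Finset.sum_apply, map_zsmul, Pi.smul_apply, rot_comp b, smul_eq_mul, mul_ite, mul_zero]
  simp [mul_comm]

theorem rot_eighth (b : Bool) {x : GolayPt → ℤ} (hx : x ∈ leechLattice) :
    ∃ y ∈ leechLattice, (8 : ℤ) • y = tLin (if b then tiRows else tRows) x := by
  have key : leechLattice ≤
      ((leechLattice.map (smulAddHom ℤ (GolayPt → ℤ) 8)).comap (tLin (if b then tiRows else tRows))) := by
    obtain ⟨h1, h2, h3⟩ := rot_mem_ok b
    refine Cfsg.Agent.Lib.ThreeTransp.leech_le ?_ (fun i => ?_) fun e he => ?_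
    all_goals rw [AddSubgroup.mem_comap, AddSubgroup.mem_map]
    · obtain ⟨y, hy, e⟩ := exists_of_eighthOk h1; exact ⟨y, hy, e⟩
    · obtain ⟨y, hy, e⟩ := exists_of_eighthOk (h2 i); exact ⟨y, hy, e⟩
    · obtain ⟨y, hy, e'⟩ := exists_of_eighthOk (h3 e he); exact ⟨y, hy, e'⟩
  obtain ⟨y, hy, e⟩ := AddSubgroup.mem_map.mp (key hx)
  exact ⟨y, hy, e⟩

theorem dot_tLin (b : Bool) (x z : GolayPt → ℤ) :
    dotInt (tLin (if b then tiRows else tRows) x) z = dotInt x (tLin (if b then tRows else tiRows) z) := by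
  simp only [dotInt, tLin, AddMonoidHom.coe_mk, ZeroHom.coe_mk, Finset.sum_mul, Finset.mul_sum]
  rw [Finset.sum_comm]
  refine Finset.sum_congr rfl fun q _ => Finset.sum_congr rfl fun p _ => ?_
  cases b
  · simp only [Bool.false_eq_true, if_false, rot_transpose p q]; ring
  · simp only [if_true, ← rot_transpose q p]; ring

/-- The map on vectors. -/
def rotFun (b : Bool) (x : GolayPt → ℤ) : GolayPt → ℤ :=
  fun p => tLin (if b then tiRows else tRows) x p / 8

theorem rotFun_spec (b : Bool) {x : GolayPt → ℤ} (hx : x ∈ leechLattice) :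
    rotFun b x ∈ leechLattice ∧ (8 : ℤ) • rotFun b x = tLin (if b then tiRows else tRows) x := by
  obtain ⟨y, hy, e⟩ := rot_eighth b hx
  have : rotFun b x = y := funext fun p => by
    simp only [rotFun, ← e, Pi.smul_apply, smul_eq_mul]
    omega
  rw [this]
  exact ⟨hy, e⟩

theorem rotFun_inverse (b : Bool) {x : GolayPt → ℤ} (hx : x ∈ leechLattice) :
    rotFun b (rotFun (!b) x) = x := by
  obtain ⟨h1, e1⟩ := rotFun_spec (!b) hx
  obtain ⟨-, e2⟩ := rotFun_spec b h1
  have e3 := rot_comp_apply b x
  have e4 : (if (!b) = true then tiRows else tRows) = if b = true then tRows else tiRows := by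
    cases b <;> rfl
  rw [e4] at e1
  rw [← e1, map_zsmul, ← e2, smul_smul] at e3
  funext p
  have := congrFun e3 p
  simp only [Pi.smul_apply, smul_eq_mul] at this
  linarith

theorem exists_co0_rot (b : Bool) :
    ∃ g : ↥Co0, ∀ v : ↥leechLattice, ((g • v : ↥leechLattice) : GolayPt → ℤ) = rotFun b v := by
  let f : ↥leechLattice → ↥leechLattice := fun v => ⟨_, (rotFun_spec b v.2).1⟩
  let f' : ↥leechLattice → ↥leechLattice := fun v => ⟨_, (rotFun_spec (!b) v.2).1⟩
  refine ⟨⟨{ toFun := f, invFun := f', left_inv := fun v => ?_, right_inv := fun v => ?_ },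
    fun v w => Subtype.ext ?_, fun v => ?_⟩, fun v => rfl⟩
  · refine Subtype.ext ?_
    have h := rotFun_inverse (!b) v.2
    rw [Bool.not_not] at h
    exact h
  · exact Subtype.ext (rotFun_inverse b v.2)
  · have h1 := (rotFun_spec b (v + w).2).2
    rw [show (((v + w : ↥leechLattice)) : GolayPt → ℤ) = (v : GolayPt → ℤ) + w from rfl, map_add,
      ← (rotFun_spec b v.2).2, ← (rotFun_spec b w.2).2, ← smul_add] at h1
    exact smul_right_injective (GolayPt → ℤ) (by norm_num : (8 : ℤ) ≠ 0) h1
  · have h1 := (rotFun_spec b v.2).2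
    show sqNorm (rotFun b v) = _
    have h2 := dot_tLin b (v : GolayPt → ℤ) (tLin (if b then tiRows else tRows) v)
    have h3 := rot_comp_apply (!b) (v : GolayPt → ℤ)
    have e4 : ∀ X Y : List (List ℤ), (if (!b) = true then X else Y) = if b = true then Y else X := by
      intro X Y; cases b <;> rfl
    rw [e4, e4] at h3
    rw [h3, ← h1] at h2
    simp only [dotInt, sqNorm, Pi.smul_apply, smul_eq_mul] at h2 ⊢
    have h5 : ∀ p, (8 * rotFun b (v : GolayPt → ℤ) p) * (8 * rotFun b (v : GolayPt → ℤ) p)
        = 64 * rotFun b (v : GolayPt → ℤ) p ^ 2 := fun p => by ring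
    simp only [h5] at h2
    rw [← Finset.mul_sum] at h2
    have h6 : ∑ p, (v : GolayPt → ℤ) p * (64 * (v : GolayPt → ℤ) p) = 64 * ∑ p, (v : GolayPt → ℤ) p ^ 2 := by
      rw [Finset.mul_sum]
      exact Finset.sum_congr rfl fun p _ => by ring
    rw [h6] at h2
    linarith

/-- The map on coordinate lists. -/
def actRot (b : Bool) (l : List ℤ) : List ℤ :=
  (if b then tiRows else tRows).map fun r => (List.zipWith (· * ·) r l).sum / 8

theorem rows_ok : ∀ b : Bool, (if b then tiRows else tRows).length = 24 ∧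
    (if b then tiRows else tRows).all (fun r => r.length == 24) = true := by
  decide +kernel

theorem sum_zipWith {r l : List ℤ} {n : ℕ} (hr : r.length = n) (hl : l.length = n) :
    (List.zipWith (· * ·) r l).sum = ∑ i : Fin n, r.getD i 0 * l.getD i 0 := by
  have h : List.zipWith (· * ·) r l = List.ofFn fun i : Fin n => r.getD i 0 * l.getD i 0 := by
    refine List.ext_getElem (by simp [hr, hl]) fun i h1 h2 => ?_
    simp only [List.getElem_zipWith, List.getElem_ofFn]
    rw [List.getD_eq_getElem _ _ (by simp at h1; omega), List.getD_eq_getElem _ _ (by simp at h1; omega)]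
  rw [h, List.sum_ofFn]

theorem actRot_eq (b : Bool) (x : GolayPt → ℤ) : actRot b (listOf x) = listOf (rotFun b x) := by
  obtain ⟨h1, h2⟩ := rows_ok b
  rw [List.all_eq_true] at h2
  refine List.ext_getElem (by simp [actRot, listOf, h1]) fun i hi hi' => ?_
  have hi24 : i < 24 := by simpa [actRot, h1] using hi
  rw [show (listOf (rotFun b x))[i] = rotFun b x (enc.symm ⟨i, hi24⟩) by
    simp [listOf]]
  simp only [actRot, List.getElem_map, rotFun]
  rw [sum_zipWith (n := 24) (beq_iff_eq.mp (h2 _ (List.getElem_mem _))) (by simp [listOf])]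
  congr 1
  show _ = ∑ q, entry _ (enc.symm ⟨i, hi24⟩) q * x q
  rw [← Equiv.sum_comp enc.symm]
  refine Finset.sum_congr rfl fun j _ => ?_
  simp only [entry, Equiv.apply_symm_apply, listOf_getD]
  rw [List.getD_eq_getElem _ _ (by omega : i < _)]

end Cfsg.Agent.Lib.LeechOut
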