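import Cfsg.Agent.Lib.Leech.PermPart
import Cfsg.Agent.Lib.LeechOut.Rot

/-!
Words in monomial elements and the rotation, evaluated on coordinate lists.
-/

set_option autoImplicit false

namespace Cfsg.Agent.Lib.LeechOut

open Cfsg Cfsg.Agent.Lib.Compute Cfsg.Agent.Lib.Leech

/-- Letters. -/
inductive Lt where
  | mono (e : MGen) : Lt
  | rot (b : Bool) : Lt

/-- The action of a letter on lists. -/
def Lt.act : Lt → List ℤ → List ℤ
  | .mono e, l => actMono e l
  | .rot b, l => actRot b l

/-- Validity of a letter. -/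
def Lt.good : Lt → Bool
  | .mono e => genGood e
  | .rot _ => true

/-- The action of a word, right to left. -/
def actW : List Lt → List ℤ → List ℤ
  | [], l => l
  | t :: w, l => t.act (actW w l)

theorem actW_append (w w' : List Lt) (l : List ℤ) : actW (w ++ w') l = actW w (actW w' l) := by
  induction w with
  | nil => rfl
  | cons t w ih => exact congrArg t.act ih

theorem listOf_injective : Function.Injective listOf := fun x y h => by
  rw [← vecOf_listOf x, h, vecOf_listOf]

open Classical in
/-- The element of a letter. -/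
noncomputable def elLt (t : Lt) : ↥Co0 :=
  if h : ∃ g : ↥Co0, ∀ v : ↥leechLattice, listOf ((g • v : ↥leechLattice) : GolayPt → ℤ)
      = t.act (listOf (v : GolayPt → ℤ)) then h.choose else 1

/-- The element of a word. -/
noncomputable def el (w : List Lt) : ↥Co0 := (w.map elLt).prod

theorem el_append (w w' : List Lt) : el (w ++ w') = el w * el w' := by
  simp [el, List.prod_append]

theorem el_nil : el [] = 1 := rfl

theorem el_pow (w : List Lt) : ∀ n : ℕ, el w ^ n = el (List.replicate n w).flatten
  | 0 => by simp [el]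
  | n + 1 => by rw [List.replicate_succ, List.flatten_cons, el_append, pow_succ', el_pow w n]

theorem actMono_length (e : MGen) (l : List ℤ) : (actMono e l).length = 24 := by simp [actMono]

theorem elLt_spec {t : Lt} (h : t.good = true) (v : ↥leechLattice) :
    listOf ((elLt t • v : ↥leechLattice) : GolayPt → ℤ) = t.act (listOf (v : GolayPt → ℤ)) := by
  have hex : ∃ g : ↥Co0, ∀ v : ↥leechLattice, listOf ((g • v : ↥leechLattice) : GolayPt → ℤ)
      = t.act (listOf (v : GolayPt → ℤ)) := by
    cases t with
    | mono e =>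
      obtain ⟨g, hg⟩ := exists_gen (e := e) h
      refine ⟨g, fun v => ?_⟩
      rw [hg v]
      refine List.ext_getElem (by simp [listOf, Lt.act, actMono]) fun i h1 h2 => ?_
      have hi : i < 24 := by simpa [listOf] using h1
      simp only [listOf, List.getElem_map, List.getElem_finRange, vecOf, Equiv.apply_symm_apply,
        Fin.cast_mk]
      rw [List.getD_eq_getElem _ _ (by rw [actMono_length]; exact hi)]
      rfl
    | rot b =>
      obtain ⟨g, hg⟩ := exists_co0_rot b
      exact ⟨g, fun v => by rw [hg v]; exact (actRot_eq b _).symm⟩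
  rw [elLt, dif_pos hex]
  exact hex.choose_spec v

theorem el_spec : ∀ {w : List Lt}, w.all Lt.good = true → ∀ v : ↥leechLattice,
    listOf ((el w • v : ↥leechLattice) : GolayPt → ℤ) = actW w (listOf (v : GolayPt → ℤ))
  | [], _, v => by rw [el_nil, one_smul]; rfl
  | t :: w, h, v => by
    rw [List.all_cons, Bool.and_eq_true] at h
    rw [show el (t :: w) = elLt t * el w by simp [el], mul_smul, elLt_spec h.1, el_spec h.2]
    rfl

/-- A coordinate list supported at one point. -/
def unitL (c : ℤ) (i : ℕ) : List ℤ := (List.range 24).map fun j => if j == i then c else 0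

theorem listOf_single (c : ℤ) (i : Fin 24) :
    listOf (Pi.single (enc.symm i) c : GolayPt → ℤ) = unitL c i := by
  refine List.ext_getElem (by simp [listOf, unitL]) fun j h1 h2 => ?_
  have hj : j < 24 := by simpa [listOf] using h1
  simp only [listOf, unitL, List.getElem_map, List.getElem_finRange, List.getElem_range,
    Pi.single_apply, Fin.cast_mk, EmbeddingLike.apply_eq_iff_eq, Fin.ext_iff, beq_iff_eq]

theorem listOf_eightAt (i : Fin 24) :
    listOf ((eightAt (enc.symm i) : ↥leechLattice) : GolayPt → ℤ) = unitL 8 i :=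
  listOf_single 8 i

theorem listOf_neg_eightAt (i : Fin 24) :
    listOf (((-eightAt (enc.symm i) : ↥leechLattice)) : GolayPt → ℤ) = unitL (-8) i := by
  rw [AddSubgroup.coe_neg]
  show listOf (-(Pi.single (enc.symm i) (8 : ℤ)) : GolayPt → ℤ) = _
  rw [← Pi.single_neg, listOf_single]

/-- An automorphism is determined by the images of the frame. -/
theorem ext_eightAt {g h : ↥Co0} (e : ∀ i : Fin 24, g • eightAt (enc.symm i) = h • eightAt (enc.symm i)) :
    g = h := by
  refine co0_ext fun v => ?_
  have h8 : (8 : ℤ) • v = ∑ i, (v : GolayPt → ℤ) i • eightAt i := by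
    refine Subtype.ext (funext fun q => ?_)
    simp only [AddSubgroup.coe_zsmul, AddSubgroup.val_finsetSum, Finset.sum_apply, Pi.smul_apply,
      smul_eq_mul, eightAt]
    rw [Finset.sum_eq_single q (fun i _ hi => by rw [Pi.single_eq_of_ne (Ne.symm hi), mul_zero])
      (fun hq => absurd (Finset.mem_univ _) hq), Pi.single_eq_same, mul_comm]
  have key : (8 : ℤ) • (g • v) = (8 : ℤ) • (h • v) := by
    rw [← co0_zsmul, ← co0_zsmul, h8, co0_sum, co0_sum]
    refine Finset.sum_congr rfl fun q _ => ?_
    obtain ⟨i, rfl⟩ := enc.symm.surjective q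
    rw [co0_zsmul, co0_zsmul, e i]
  have h1 := congrArg Subtype.val key
  simp only [AddSubgroup.coe_zsmul] at h1
  exact smul_right_injective (GolayPt → ℤ) (by norm_num : (8 : ℤ) ≠ 0) h1

/-- Two words act equally. -/
def sameW (w w' : List Lt) : Bool :=
  w.all Lt.good && w'.all Lt.good &&
    (List.range 24).all fun i => actW w (unitL 8 i) == actW w' (unitL 8 i)

theorem el_eq_of_sameW {w w' : List Lt} (h : sameW w w' = true) : el w = el w' := by
  simp only [sameW, Bool.and_eq_true, List.all_eq_true (p := fun i => _ == _), List.mem_range,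
    beq_iff_eq] at h
  obtain ⟨⟨hw, hw'⟩, hall⟩ := h
  refine ext_eightAt fun i => Subtype.ext (listOf_injective ?_)
  rw [el_spec hw, el_spec hw', listOf_eightAt]
  exact hall i i.isLt

/-- The word moves one of the frame vectors. -/
def movedW (w : List Lt) : Bool :=
  w.all Lt.good && (23 :: List.range 23).any fun i => !(actW w (unitL 8 i) == unitL 8 i)

theorem lt_24_of_mem {i : ℕ} (hi : i ∈ 23 :: List.range 23) : i < 24 := by
  rcases List.mem_cons.mp hi with rfl | hi
  · norm_num
  · have := List.mem_range.mp hi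
    omega

theorem el_ne_one_of_movedW {w : List Lt} (h : movedW w = true) : el w ≠ 1 := by
  simp only [movedW, Bool.and_eq_true, List.any_eq_true, Bool.not_eq_true',
    beq_eq_false_iff_ne] at h
  obtain ⟨hw, i, hi, hne⟩ := h
  intro e
  refine hne ?_
  have h1 := el_spec hw (eightAt (enc.symm ⟨i, lt_24_of_mem hi⟩))
  rw [e, one_smul, listOf_eightAt] at h1
  exact h1.symm

/-- The word does not negate all frame vectors. -/
def notNegW (w : List Lt) : Bool :=
  w.all Lt.good && (23 :: List.range 23).any fun i => !(actW w (unitL 8 i) == unitL (-8) i)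

theorem not_neg_of_notNegW {w : List Lt} (h : notNegW w = true) :
    ¬ ∀ v : ↥leechLattice, el w • v = -v := by
  simp only [notNegW, Bool.and_eq_true, List.any_eq_true, Bool.not_eq_true',
    beq_eq_false_iff_ne] at h
  obtain ⟨hw, i, hi, hne⟩ := h
  intro e
  refine hne ?_
  have h1 := el_spec hw (eightAt (enc.symm ⟨i, lt_24_of_mem hi⟩))
  rw [e, listOf_neg_eightAt, listOf_eightAt] at h1
  exact h1.symm

/-- The word fixes a vector given by a list. -/
def fixesW (w : List Lt) (l : List ℤ) : Bool := actW w l == l

theorem smul_eq_iff_fixesW {w : List Lt} (hw : w.all Lt.good = true) (v : ↥leechLattice) {l : List ℤ}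
    (hl : listOf (v : GolayPt → ℤ) = l) : el w • v = v ↔ fixesW w l = true := by
  rw [fixesW, beq_iff_eq, ← hl, ← el_spec hw v]
  exact ⟨fun e => by rw [e], fun e => Subtype.ext (listOf_injective e)⟩

theorem mono_apply {e : MGen} (h : genGood e = true) (v : ↥leechLattice) :
    ((el [.mono e] • v : ↥leechLattice) : GolayPt → ℤ)
      = signedPerm (toGP (toPerm 24 e.1)) (setOf24 e.2.2) (v : GolayPt → ℤ) := by
  have h0 := h
  simp only [genGood, Bool.and_eq_true] at h
  obtain ⟨⟨⟨h1, h1'⟩, -⟩, -⟩ := h
  have hr := repr_toPerm_of_genOk h1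
  have hr' := repr_toPerm_of_genOk h1'
  have hsp := el_spec (w := [.mono e]) (by simp [Lt.good, h0]) v
  refine listOf_injective (hsp.trans ?_)
  refine List.ext_getElem (by simp [actW, Lt.act, actMono, listOf]) fun i hi hi' => ?_
  have hi24 : i < 24 := by simpa [listOf] using hi'
  have hinv : (toGP (toPerm 24 e.1)).symm (enc.symm ⟨i, hi24⟩) = enc.symm (toPerm 24 e.2.1 ⟨i, hi24⟩) := by
    rw [Equiv.symm_apply_eq]
    apply enc.injective
    apply Fin.ext
    rw [enc_toGP, hr]
    simp only [Equiv.apply_symm_apply, hr' ⟨i, hi24⟩]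
    simp only [genOk, List.all_eq_true, List.mem_range, Bool.and_eq_true, decide_eq_true_eq,
      beq_iff_eq] at h1'
    exact ((h1' i hi24).2).symm
  simp only [actW, Lt.act, actMono, listOf, List.getElem_map, List.getElem_finRange, Fin.cast_mk,
    signedPerm, mem_setOf24, Equiv.apply_symm_apply, hinv]
  rw [← hr' ⟨i, hi24⟩]
  rw [show (List.map (fun i => (v : GolayPt → ℤ) (enc.symm i)) (List.finRange 24)).getD
      (toPerm 24 e.2.1 ⟨i, hi24⟩ : Fin 24) 0 = (v : GolayPt → ℤ) (enc.symm (toPerm 24 e.2.1 ⟨i, hi24⟩))
    from listOf_getD (v : GolayPt → ℤ) _]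

theorem el_mono_perm {e : MGen} {π : ↥M24} (h : genGood e = true) (hm : e.2.2 = 0)
    (hp : toGP (toPerm 24 e.1) = (π : Equiv.Perm GolayPt)) : el [.mono e] = permHom π := by
  refine co0_ext fun v => funext fun q => ?_
  rw [mono_apply h, permHom_apply, hm, hp]
  simp [signedPerm, mem_setOf24]

end Cfsg.Agent.Lib.LeechOut
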