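import Cfsg.Agent.Lib.Leech.StabBase
import Cfsg.Agent.Lib.MathieuOut.Perms
import Cfsg.Agent.Lib.LeechOut.Word

/-!
The centraliser in the automorphism group of the lattice of the doubling map: 132 elements.
-/

set_option autoImplicit false

namespace Cfsg.Agent.Lib.LeechOut

open Cfsg Equiv Cfsg.Agent.Lib.Compute Cfsg.Agent.Lib.Leech

/-- The translation in `M24`. -/
noncomputable abbrev shiftM : ↥M24 := ⟨MathieuOut.shift, MathieuOut.shift_mem⟩

/-- The doubling map in `M24`. -/
noncomputable abbrev dblM : ↥M24 := ⟨MathieuOut.dbl, MathieuOut.dbl_mem⟩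

/-- The cube twist in `M24`. -/
noncomputable abbrev ctwM : ↥M24 := ⟨MathieuOut.ctw, MathieuOut.ctw_mem⟩

/-- The inversion in `M24`. -/
noncomputable abbrev invM : ↥M24 := ⟨projInv, MathieuOut.projInv_mem⟩

/-- The translation as an automorphism. -/
noncomputable abbrev xS : ↥Co0 := permHom shiftM

/-- The doubling map as an automorphism. -/
noncomputable abbrev dS : ↥Co0 := permHom dblM

/-- The cube twist as an automorphism. -/
noncomputable abbrev eS : ↥Co0 := permHom ctwM

/-- The inversion as an automorphism. -/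
noncomputable abbrev wS : ↥Co0 := permHom invM

/-- The single-letter word of the power `i` of the doubling map, negated on the dodecad if `b = 1`. -/
def dW (b i : ℕ) : List Lt := [.mono (gDs.getD (11 * b + i) (0, 0, 0))]

theorem perm_app : ∀ (i : Fin 24),
    app gX.1 i = (enc (MathieuOut.shift (enc.symm i)) : ℕ) ∧
    app gE.1 i = (enc (MathieuOut.ctw (enc.symm i)) : ℕ) ∧
    app gW.1 i = (enc (projInv (enc.symm i)) : ℕ) ∧
    app (gDs.getD 1 (0, 0, 0)).1 i = (enc (MathieuOut.dbl (enc.symm i)) : ℕ) := by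
  decide +kernel

theorem gens_good : genGood gX = true ∧ genGood gE = true ∧ genGood gW = true ∧
    gX.2.2 = 0 ∧ gE.2.2 = 0 ∧ gW.2.2 = 0 ∧ genGood (gDs.getD 1 (0, 0, 0)) = true ∧
    (gDs.getD 1 (0, 0, 0)).2.2 = 0 := by
  decide +kernel

theorem el_eq_perm {e : MGen} {π : ↥M24} (h : genGood e = true) (hm : e.2.2 = 0)
    (hp : ∀ i : Fin 24, app e.1 i = (enc ((π : Perm GolayPt) (enc.symm i)) : ℕ)) :
    el [.mono e] = permHom π := by
  refine el_mono_perm h hm ?_
  have h1 := h
  simp only [genGood, Bool.and_eq_true] at h1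
  refine Equiv.ext fun p => enc.injective (Fin.ext ?_)
  rw [enc_toGP, repr_toPerm_of_genOk h1.1.1.1 (enc p)]
  have := hp (enc p)
  rwa [Equiv.symm_apply_apply] at this

theorem el_gX : el [.mono gX] = xS := el_eq_perm gens_good.1 gens_good.2.2.2.1 fun i => (perm_app i).1

theorem el_gE : el [.mono gE] = eS :=
  el_eq_perm gens_good.2.1 gens_good.2.2.2.2.1 fun i => (perm_app i).2.1

theorem el_gW : el [.mono gW] = wS :=
  el_eq_perm gens_good.2.2.1 gens_good.2.2.2.2.2.1 fun i => (perm_app i).2.2.1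

theorem el_dW : el (dW 0 1) = dS :=
  el_eq_perm gens_good.2.2.2.2.2.2.1 gens_good.2.2.2.2.2.2.2 fun i => (perm_app i).2.2.2

/-- The power `c` of the rotation. -/
def tW : ℕ → List Lt
  | 0 => []
  | 1 => [.rot false]
  | _ => [.rot true]

/-- Negation if `a = 1`. -/
def nW : ℕ → List Lt
  | 0 => []
  | _ => [.mono gN]

/-- The elements of the centraliser. -/
def cand (k : ℕ) : List Lt := tW (k % 66 / 22) ++ nW (k / 66) ++ dW (k % 22 / 11) (k % 11)

theorem cand_good : (List.range 132).all (fun k => (cand k).all Lt.good) = true := by decide +kernel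

theorem base_good : ([Lt.mono gN] : List Lt).all Lt.good = true ∧
    (List.range 2).all (fun b => (List.range 11).all fun i => (dW b i).all Lt.good) = true ∧
    (List.range 2).all (fun a => (List.range 3).all fun c => (tW c ++ nW a).all Lt.good) = true := by
  decide +kernel

theorem rot_commute : sameW (.rot false :: dW 0 1) (dW 0 1 ++ [.rot false]) = true ∧
    sameW (.rot true :: dW 0 1) (dW 0 1 ++ [.rot true]) = true ∧
    sameW (.mono gN :: dW 0 1) (dW 0 1 ++ [.mono gN]) = true := by
  decide +kernel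

theorem tnW_commute (c a : ℕ) : el (tW c ++ nW a) * dS = dS * el (tW c ++ nW a) := by
  obtain ⟨h1, h2, h3⟩ := rot_commute
  have hlet : ∀ t : Lt, el (t :: dW 0 1) = el (dW 0 1 ++ [t]) → el [t] * dS = dS * el [t] := by
    intro t ht
    rw [← el_dW, ← el_append, ← el_append]
    exact ht
  have hn : el (nW a) * dS = dS * el (nW a) := by
    rcases a with _ | a
    · rw [nW, el_nil, one_mul, mul_one]
    · exact hlet _ (el_eq_of_sameW h3)
  have ht : el (tW c) * dS = dS * el (tW c) := by
    rcases c with _ | _ | c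
    · rw [tW, el_nil, one_mul, mul_one]
    · exact hlet _ (el_eq_of_sameW h1)
    · exact hlet _ (el_eq_of_sameW h2)
  rw [el_append, mul_assoc, hn, ← mul_assoc, ht, mul_assoc]

/-- A vector constant on the cycles of the doubling map. -/
def classList (A B C D : ℤ) : List ℤ :=
  (List.range 24).map fun i =>
    if i == 0 then C else if i == 23 then D
    else if ([1, 2, 4, 8, 16, 9, 18, 13, 3, 6, 12] : List ℕ).contains i then A else B

/-- Integrality of the inner products with generators of the lattice. -/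
def dualOk (l : List ℤ) : Bool :=
  decide ((8 : ℤ) ∣ dotInt (vecOf l) Cfsg.Agent.Lib.ThreeTransp.oddVec) &&
    decide (∀ i : GolayPt, (8 : ℤ) ∣ dotInt (vecOf l) (Cfsg.Agent.Lib.ThreeTransp.pairFun i none)) &&
    golayBasis.all fun e =>
      decide ((8 : ℤ) ∣ dotInt (vecOf l) fun p : GolayPt => if p ∈ setOf24 e.1 then (2 : ℤ) else 0)

/-- The six images of the frame vectors at the two fixed points. -/
def reach (j : ℕ) (l : List ℤ) : Bool :=
  (List.range 2).any fun a => (List.range 3).any fun c => actW (tW c ++ nW a) (unitL 8 j) == l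

theorem class_cases : ∀ (a b : Fin 5) (c d : Fin 17),
    11 * ((a : ℤ) - 2) ^ 2 + 11 * ((b : ℤ) - 2) ^ 2 + ((c : ℤ) - 8) ^ 2 + ((d : ℤ) - 8) ^ 2 = 64 →
    dualOk (classList ((a : ℤ) - 2) ((b : ℤ) - 2) ((c : ℤ) - 8) ((d : ℤ) - 8)) = true →
    reach 23 (classList ((a : ℤ) - 2) ((b : ℤ) - 2) ((c : ℤ) - 8) ((d : ℤ) - 8)) = true ∨
      reach 0 (classList ((a : ℤ) - 2) ((b : ℤ) - 2) ((c : ℤ) - 8) ((d : ℤ) - 8)) = true := by
  decide +kernel

theorem dual_gens : Cfsg.Agent.Lib.ThreeTransp.oddVec ∈ leechLattice ∧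
    (∀ i : GolayPt, Cfsg.Agent.Lib.ThreeTransp.pairFun i none ∈ leechLattice) ∧
    ∀ e ∈ golayBasis, (fun p : GolayPt => if p ∈ setOf24 e.1 then (2 : ℤ) else 0) ∈ leechLattice := by
  have h : latOk Cfsg.Agent.Lib.ThreeTransp.oddVec = true ∧
      (∀ i : GolayPt, latOk (Cfsg.Agent.Lib.ThreeTransp.pairFun i none) = true) ∧
      ∀ e ∈ golayBasis, latOk (fun p : GolayPt => if p ∈ setOf24 e.1 then (2 : ℤ) else 0) = true := by
    decide +kernel
  exact ⟨mem_of_latOk h.1, fun i => mem_of_latOk (h.2.1 i), fun e he => mem_of_latOk (h.2.2 e he)⟩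

theorem class_chain : ∀ i : Fin 24, i = 0 ∨ i = 23 ∨
    (([1, 2, 4, 8, 16, 9, 18, 13, 3, 6, 12] : List ℕ).contains i = true ∧
      ∃ k : Fin 11, enc.symm i = (MathieuOut.dbl ^ (k : ℕ)) (enc.symm 1)) ∨
    (([1, 2, 4, 8, 16, 9, 18, 13, 3, 6, 12] : List ℕ).contains i = false ∧
      ∃ k : Fin 11, enc.symm i = (MathieuOut.dbl ^ (k : ℕ)) (enc.symm 22)) := by
  decide +kernel

theorem fixed_pow {u : ↥leechLattice} (h : dS • u = u) (k : ℕ) (q : GolayPt) :
    (u : GolayPt → ℤ) ((MathieuOut.dbl ^ k) q) = (u : GolayPt → ℤ) q := by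
  induction k with
  | zero => rfl
  | succ k ih =>
    rw [pow_succ', Perm.mul_apply]
    exact (apply_eq_of_fixed h _).trans ih

theorem class_pattern {u : ↥leechLattice} (h : dS • u = u) :
    listOf (u : GolayPt → ℤ) = classList ((u : GolayPt → ℤ) (enc.symm 1)) ((u : GolayPt → ℤ) (enc.symm 22))
      ((u : GolayPt → ℤ) (enc.symm 0)) ((u : GolayPt → ℤ) (enc.symm 23)) := by
  refine List.ext_getElem (by simp [listOf, classList]) fun i h1 h2 => ?_
  have hi : i < 24 := by simpa [listOf] using h1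
  simp only [listOf, classList, List.getElem_map, List.getElem_finRange, List.getElem_range,
    Fin.cast_mk]
  rcases class_chain ⟨i, hi⟩ with e | e | ⟨hc, k, hk⟩ | ⟨hc, k, hk⟩
  · have : i = 0 := congrArg Fin.val e
    subst this
    rfl
  · have : i = 23 := congrArg Fin.val e
    subst this
    rfl
  · have hne : (i == 0) = false ∧ (i == 23) = false := by
      simp only [beq_eq_false_iff_ne]
      refine ⟨?_, ?_⟩ <;> rintro rfl <;> simp at hc
    rw [if_neg (by simp [hne.1]), if_neg (by simp [hne.2]), if_pos hc, hk, fixed_pow h]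
  · by_cases h0 : i = 0
    · subst h0; rfl
    by_cases h23 : i = 23
    · subst h23; rfl
    rw [if_neg (by simpa using h0), if_neg (by simpa using h23), if_neg (by simp only [hc]; decide),
      hk, fixed_pow h]

theorem classify {u : ↥leechLattice} (h : dS • u = u) (hn : sqNorm (u : GolayPt → ℤ) = 64) :
    ∃ j, (j = 23 ∨ j = 0) ∧ reach j (listOf (u : GolayPt → ℤ)) = true := by
  have hp := class_pattern h
  obtain ⟨A, hA⟩ : ∃ A, (u : GolayPt → ℤ) (enc.symm 1) = A := ⟨_, rfl⟩
  obtain ⟨B, hB⟩ : ∃ B, (u : GolayPt → ℤ) (enc.symm 22) = B := ⟨_, rfl⟩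
  obtain ⟨C, hC⟩ : ∃ C, (u : GolayPt → ℤ) (enc.symm 0) = C := ⟨_, rfl⟩
  obtain ⟨D, hD⟩ : ∃ D, (u : GolayPt → ℤ) (enc.symm 23) = D := ⟨_, rfl⟩
  rw [hA, hB, hC, hD] at hp
  have hu : (u : GolayPt → ℤ) = vecOf (classList A B C D) := by rw [← hp, vecOf_listOf]
  have hsum : 11 * A ^ 2 + 11 * B ^ 2 + C ^ 2 + D ^ 2 = 64 := by
    rw [hu, sqNorm, ← Equiv.sum_comp enc.symm] at hn
    simp only [vecOf, Equiv.apply_symm_apply, Fin.sum_univ_succ, Fin.sum_univ_zero] at hn
    simp [classList, List.range_succ] at hn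
    linarith
  have bA : -2 ≤ A ∧ A ≤ 2 := ⟨by nlinarith, by nlinarith⟩
  have bB : -2 ≤ B ∧ B ≤ 2 := ⟨by nlinarith, by nlinarith⟩
  have bC : -8 ≤ C ∧ C ≤ 8 := ⟨by nlinarith, by nlinarith⟩
  have bD : -8 ≤ D ∧ D ≤ 8 := ⟨by nlinarith, by nlinarith⟩
  obtain ⟨a, rfl⟩ : ∃ a : Fin 5, A = (a : ℤ) - 2 := ⟨⟨(A + 2).toNat, by omega⟩, by simp only; omega⟩
  obtain ⟨b, rfl⟩ : ∃ b : Fin 5, B = (b : ℤ) - 2 := ⟨⟨(B + 2).toNat, by omega⟩, by simp only; omega⟩
  obtain ⟨c, rfl⟩ : ∃ c : Fin 17, C = (c : ℤ) - 8 := ⟨⟨(C + 8).toNat, by omega⟩, by simp only; omega⟩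
  obtain ⟨d, rfl⟩ : ∃ d : Fin 17, D = (d : ℤ) - 8 := ⟨⟨(D + 8).toNat, by omega⟩, by simp only; omega⟩
  have hdual : dualOk (classList ((a : ℤ) - 2) ((b : ℤ) - 2) ((c : ℤ) - 8) ((d : ℤ) - 8)) = true := by
    obtain ⟨g1, g2, g3⟩ := dual_gens
    simp only [dualOk, Bool.and_eq_true, decide_eq_true_eq, List.all_eq_true]
    rw [← hu]
    exact ⟨⟨eight_dvd_dotInt u.2 g1, fun i => eight_dvd_dotInt u.2 (g2 i)⟩,
      fun e he => eight_dvd_dotInt u.2 (g3 e he)⟩
  rw [hp]
  rcases class_cases a b c d hsum hdual with e | e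
  · exact ⟨23, Or.inl rfl, e⟩
  · exact ⟨0, Or.inr rfl, e⟩

theorem sign_cases : ∀ q : Bool × Bool × Bool,
    let m := (List.range 24).foldl (fun acc i => if (if i == 0 then q.2.2 else if i == 23 then false
      else if ([1, 2, 4, 8, 16, 9, 18, 13, 3, 6, 12] : List ℕ).contains i then q.1 else q.2.1)
        then acc ||| 1 <<< i else acc) 0
    inCode m = true → m = 0 ∨ m = epsMask := by
  decide +kernel

theorem code_closed : codeList.all inCode = true := by decide +kernel

theorem gDs_facts : ∀ (b : Fin 2) (i : Fin 11), genGood (gDs.getD (11 * (b : ℕ) + i) (0, 0, 0)) = true ∧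
    (gDs.getD (11 * (b : ℕ) + i) (0, 0, 0)).2.2 = (if b = 0 then 0 else epsMask) ∧
    ∀ j : Fin 24, app (gDs.getD (11 * (b : ℕ) + i) (0, 0, 0)).1 j
      = (enc ((MathieuOut.dbl ^ (i : ℕ)) (enc.symm j)) : ℕ) := by
  decide +kernel

/-- An element fixing the last frame vector and commuting with the doubling map is monomial. -/
theorem fix_case {g : ↥Co0} (hg : g * dS = dS * g)
    (hu : g • eightAt (enc.symm 23) = eightAt (enc.symm 23)) :
    ∃ b < 2, ∃ i < 11, g = el (dW b i) := by
  classical
  obtain ⟨π, hπ, c, hc, happ⟩ := exists_frame_of_eight g _ ⟨_, Or.inl hu⟩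
  have hsingle : ∀ i, ((g • eightAt i : ↥leechLattice) : GolayPt → ℤ) =
      Pi.single (π i) (if π i ∈ c then -8 else 8) := fun i => (happ _).trans (signedPerm_single π c i 8)
  have h23 : π (enc.symm 23) = enc.symm 23 ∧ enc.symm 23 ∉ c := by
    have h := congrFun ((hsingle (enc.symm 23)).symm.trans (congrArg Subtype.val hu)) (π (enc.symm 23))
    rw [Pi.single_eq_same] at h
    by_cases hf : π (enc.symm 23) = enc.symm 23
    · refine ⟨hf, fun hh => ?_⟩
      rw [hf, if_pos hh] at h
      simp [eightAt] at h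
    · simp [eightAt, Pi.single_eq_of_ne hf] at h
      split_ifs at h <;> omega
  have hrel : ∀ j, MathieuOut.dbl (π j) = π (MathieuOut.dbl j) ∧
      (MathieuOut.dbl (π j) ∈ c ↔ π j ∈ c) := by
    intro j
    have h1 := congrArg (fun k : ↥Co0 => ((k • eightAt j : ↥leechLattice) : GolayPt → ℤ)) hg
    simp only [mul_smul, permHom_eightAt, hsingle] at h1
    have h2 := congrFun h1 (MathieuOut.dbl (π j))
    rw [permHom_apply, hsingle, show (dblM : Perm GolayPt).symm (MathieuOut.dbl (π j)) = π j from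
      Equiv.symm_apply_apply _ _, Pi.single_eq_same] at h2
    by_cases hp : MathieuOut.dbl (π j) = π (MathieuOut.dbl j)
    · refine ⟨hp, ?_⟩
      rw [show ((dblM : Perm GolayPt)) j = MathieuOut.dbl j from rfl, ← hp, Pi.single_eq_same] at h2
      by_cases h : π j ∈ c <;> by_cases h' : MathieuOut.dbl (π j) ∈ c <;> simp_all
    · rw [show ((dblM : Perm GolayPt)) j = MathieuOut.dbl j from rfl, Pi.single_eq_of_ne hp] at h2
      split_ifs at h2 <;> omega
  obtain ⟨i, hi⟩ := MathieuOut.eq_pow_dbl hπ (show Commute π MathieuOut.dbl from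
    Equiv.ext fun j => (hrel j).1.symm)
  -- the sign set
  have hinv : ∀ (k : ℕ) (q : GolayPt), (MathieuOut.dbl ^ k) q ∈ c ↔ q ∈ c := by
    intro k q
    induction k with
    | zero => exact Iff.rfl
    | succ k ih =>
      rw [pow_succ', Perm.mul_apply]
      obtain ⟨j, hj⟩ := π.surjective ((MathieuOut.dbl ^ k) q)
      rw [← hj, (hrel j).2, hj]
      exact ih
  obtain ⟨m, hm, hmc⟩ : c ∈ setOf24 '' {m | m ∈ codeList} := by rwa [← supports_golayCode]
  have hmem : ∀ j : Fin 24, enc.symm j ∈ c ↔ m.testBit j = true := fun j => by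
    rw [← hmc, mem_setOf24, Equiv.apply_symm_apply]
  have hm2 : m = 0 ∨ m = epsMask := by
    have h := sign_cases (m.testBit 1, m.testBit 22, m.testBit 0)
    simp only at h
    have hme : (List.range 24).foldl (fun acc i => if (if i == 0 then m.testBit 0 else if i == 23 then false
      else if ([1, 2, 4, 8, 16, 9, 18, 13, 3, 6, 12] : List ℕ).contains i then m.testBit 1 else m.testBit 22)
        then acc ||| 1 <<< i else acc) 0 = m := by
      refine Nat.eq_of_testBit_eq fun k => ?_
      have hfold : ∀ (f : ℕ → Bool) (N : ℕ), ((List.range N).foldl (fun acc i => if f i then acc ||| 1 <<< i else acc) 0).testBit k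
          = (decide (k < N) && f k) := by
        intro f N
        induction N with
        | zero => simp
        | succ N ih =>
          rw [List.range_succ, List.foldl_append, List.foldl_cons, List.foldl_nil]
          by_cases hkN : k = N
          · subst hkN
            by_cases hf : f k = true
            · simp [hf, Nat.one_shiftLeft]
            · simp [hf, ih]
          · have hiff : decide (k < N + 1) = decide (k < N) := decide_eq_decide.mpr (by omega)
            rw [hiff]
            split_ifs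
            · rw [Nat.testBit_or, ih, Nat.one_shiftLeft, Nat.testBit_two_pow_of_ne (Ne.symm hkN), Bool.or_false]
            · exact ih
      rw [hfold]
      by_cases hk : k < 24
      · rw [decide_eq_true hk, Bool.true_and]
        have key : ∀ j : Fin 24, (MathieuOut.dbl ^ 0) (enc.symm j) = enc.symm j := fun j => rfl
        have h23m : m.testBit 23 = false := by
          by_contra hne
          exact h23.2 ((hmem 23).2 (by simpa using hne))
        rcases class_chain ⟨k, hk⟩ with e | e | ⟨hcl, n, hn⟩ | ⟨hcl, n, hn⟩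
        · obtain rfl : k = 0 := congrArg Fin.val e
          rfl
        · obtain rfl : k = 23 := congrArg Fin.val e
          exact h23m.symm
        · have hne : (k == 0) = false ∧ (k == 23) = false := by
            simp only [beq_eq_false_iff_ne]
            refine ⟨?_, ?_⟩ <;> rintro rfl <;> simp at hcl
          rw [if_neg (by simp [hne.1]), if_neg (by simp [hne.2]), if_pos hcl]
          have h1 : m.testBit (⟨k, hk⟩ : Fin 24) = true ↔ m.testBit ((1 : Fin 24) : ℕ) = true := by
            rw [← hmem, ← hmem, hn, hinv]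
          exact Bool.eq_iff_iff.mpr h1.symm
        · by_cases h0 : k = 0
          · subst h0; rfl
          by_cases h23' : k = 23
          · subst h23'; exact h23m.symm
          rw [if_neg (by simpa using h0), if_neg (by simpa using h23'), if_neg (by simp only [hcl]; decide)]
          have h1 : m.testBit (⟨k, hk⟩ : Fin 24) = true ↔ m.testBit ((22 : Fin 24) : ℕ) = true := by
            rw [← hmem, ← hmem, hn, hinv]
          exact Bool.eq_iff_iff.mpr h1.symm
      · rw [decide_eq_false hk, Bool.false_and, Nat.testBit_lt_two_pow (lt_of_lt_of_le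
          (lt_of_mem_codeList hm) (Nat.pow_le_pow_right (by norm_num) (by omega)))]
    rw [hme] at h
    exact h (List.all_eq_true.mp code_closed m hm)
  let b : Fin 2 := if m = 0 then 0 else 1
  obtain ⟨hg1, hg2, hg3⟩ := gDs_facts b i
  refine ⟨b, b.isLt, i, i.isLt, co0_ext fun v => ?_⟩
  rw [happ, dW, mono_apply hg1, hg2]
  congr 1
  · have h1 := hg1
    simp only [genGood, Bool.and_eq_true] at h1
    refine Equiv.ext fun p => enc.injective (Fin.ext ?_)
    rw [enc_toGP, repr_toPerm_of_genOk h1.1.1.1 (enc p), hg3, Equiv.symm_apply_apply, hi]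
  · rw [← hmc]
    rcases hm2 with e | e
    · simp [b, e]
    · subst e
      rw [if_neg (by decide)]

theorem zero_ne_last : (enc.symm 0 : GolayPt) ≠ enc.symm 23 := fun e => by simpa using enc.symm.injective e

theorem dbl_fix : MathieuOut.dbl (enc.symm 23) = enc.symm 23 ∧ MathieuOut.dbl (enc.symm 0) = enc.symm 0 := by
  decide +kernel

/-- **The centraliser of the doubling map.** -/
theorem exists_cand {g : ↥Co0} (hg : g * dS = dS * g) : ∃ k < 132, g = el (cand k) := by
  classical
  set u := eightAt (enc.symm 23) with hu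
  have hfix : dS • (g • u) = g • u := by
    rw [← mul_smul, ← hg, mul_smul, hu, permHom_eightAt]
    rw [show (dblM : Perm GolayPt) (enc.symm 23) = enc.symm 23 from dbl_fix.1]
  obtain ⟨j, hj, hr⟩ := classify hfix (by rw [co0_sqNorm]; exact sqNorm_eightAt _)
  simp only [reach, List.any_eq_true, List.mem_range, beq_iff_eq] at hr
  obtain ⟨a, ha, c, hc, hact⟩ := hr
  have hgood : (tW c ++ nW a).all Lt.good = true :=
    List.all_eq_true.mp (List.all_eq_true.mp base_good.2.2 a (List.mem_range.mpr ha)) c (List.mem_range.mpr hc)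
  have hj24 : j < 24 := by omega
  set k0 := el (tW c ++ nW a) with hk0
  have hgu : k0 • eightAt (enc.symm ⟨j, hj24⟩) = g • u :=
    Subtype.ext (listOf_injective (by rw [hk0, el_spec hgood, listOf_eightAt]; exact hact))
  have hcomm : (k0⁻¹ * g) * dS = dS * (k0⁻¹ * g) := by
    have h1 : k0 * dS = dS * k0 := tnW_commute c a
    calc (k0⁻¹ * g) * dS = k0⁻¹ * (dS * k0) * k0⁻¹ * g := by rw [mul_assoc, hg]; group
      _ = k0⁻¹ * (k0 * dS) * k0⁻¹ * g := by rw [h1]
      _ = dS * (k0⁻¹ * g) := by group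
  have hmove : (k0⁻¹ * g) • u = eightAt (enc.symm ⟨j, hj24⟩) := by
    rw [mul_smul, ← hgu, inv_smul_smul]
  rcases hj with rfl | rfl
  · obtain ⟨b, hb, i, hi, he⟩ := fix_case hcomm hmove
    refine ⟨66 * a + 22 * c + 11 * b + i, by omega, ?_⟩
    rw [cand, show (66 * a + 22 * c + 11 * b + i) % 66 / 22 = c by omega,
      show (66 * a + 22 * c + 11 * b + i) / 66 = a by omega,
      show (66 * a + 22 * c + 11 * b + i) % 22 / 11 = b by omega,
      show (66 * a + 22 * c + 11 * b + i) % 11 = i by omega, el_append, ← he, ← hk0, mul_inv_cancel_left]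
  · exfalso
    obtain ⟨π, hπ, cs, -, happ⟩ := exists_frame_of_eight (k0⁻¹ * g) _ ⟨_, Or.inl hmove⟩
    have hsingle : ∀ i, (((k0⁻¹ * g) • eightAt i : ↥leechLattice) : GolayPt → ℤ) =
        Pi.single (π i) (if π i ∈ cs then -8 else 8) := fun i => (happ _).trans (signedPerm_single π cs i 8)
    have hπ0 : π (enc.symm 23) = enc.symm 0 := by
      have h := congrFun ((hsingle (enc.symm 23)).symm.trans (congrArg Subtype.val hmove)) (π (enc.symm 23))
      rw [Pi.single_eq_same] at h
      by_contra hne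
      rw [show (⟨0, hj24⟩ : Fin 24) = 0 from rfl] at h
      simp only [eightAt, Pi.single_eq_of_ne hne] at h
      split_ifs at h <;> omega
    have hcp : Commute π MathieuOut.dbl := Equiv.ext fun q => by
      have h1 := congrArg (fun k : ↥Co0 => ((k • eightAt q : ↥leechLattice) : GolayPt → ℤ)) hcomm
      simp only [mul_smul _ dS, mul_smul dS, permHom_eightAt, hsingle] at h1
      have h2 := congrFun h1 (MathieuOut.dbl (π q))
      rw [permHom_apply, hsingle, show (dblM : Perm GolayPt).symm (MathieuOut.dbl (π q)) = π q from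
        Equiv.symm_apply_apply _ _, Pi.single_eq_same] at h2
      by_contra hp
      rw [Pi.single_eq_of_ne (show MathieuOut.dbl (π q) ≠ π (MathieuOut.dbl q) from
        fun e => hp e.symm)] at h2
      split_ifs at h2 <;> omega
    obtain ⟨i, hi⟩ := MathieuOut.eq_pow_dbl hπ hcp
    rw [hi] at hπ0
    have hk : ∀ k : ℕ, (MathieuOut.dbl ^ k) (enc.symm 23) = enc.symm 23 := fun k => by
      induction k with
      | zero => rfl
      | succ k ih => rw [pow_succ', Perm.mul_apply, ih, dbl_fix.1]
    rw [hk] at hπ0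
    exact zero_ne_last hπ0.symm

end Cfsg.Agent.Lib.LeechOut
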