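import Cfsg.Agent.Lib.LeechOut.Proj

/-!
Checks killing the centraliser modulo negation.
-/

set_option autoImplicit false

namespace Cfsg.Agent.Lib.LeechOut

open Cfsg Cfsg.Agent.Lib.Compute Cfsg.Agent.Lib.Leech

/-- The relation between the translation and the cube twist. -/
def RelQ {G : Type*} [Group G] (a b : G) : Prop := (a ^ 5 * b * b) ^ 4 = 1 ∧ (a * a * b) ^ 7 = 1

/-- The words of the relation. -/
def relQWords (inv : Bool) (c : List Lt) : List (List Lt) :=
  [(List.replicate 7 ([Lt.mono (if inv then gXi2 else gX2)] ++ ([Lt.mono gE] ++ c))).flatten,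
   (List.replicate 4 ([Lt.mono (if inv then gXi5 else gX5)] ++ ([Lt.mono gE] ++ c) ++ ([Lt.mono gE] ++ c))).flatten]

/-- The check killing the centraliser. -/
def killQ (k : ℕ) : Bool :=
  ((k == 0) || (relQWords false (cand k)).any movedP) && (relQWords true (cand k)).any movedP

/-- The words of the relation of the inversion. -/
def wWords (c : List Lt) : List (List Lt) :=
  [(List.replicate 3 ([Lt.mono gX] ++ ([Lt.mono gW] ++ c))).flatten,
   (List.replicate 10 (([Lt.mono gW] ++ c) ++ [Lt.mono gX] ++ [Lt.mono gE4])).flatten]

/-- The words of the relation of the sign change. -/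
def epsWords (c : List Lt) : List (List Lt) :=
  [c ++ c, (List.replicate 2 (c ++ [Lt.mono gW])).flatten]

/-- The words of the relation of the rotation. -/
def rotWords (c : List Lt) : List (List Lt) :=
  [c ++ c ++ c, (List.replicate 7 (c ++ [Lt.mono gX] ++ [Lt.mono gX5] ++ [Lt.mono gE])).flatten]

theorem q_base : (relQWords false []).all sameP = true ∧ (wWords []).all sameP = true ∧
    (epsWords (cand 11)).all sameP = true ∧ (rotWords (cand 22)).all sameP = true ∧
    sameW [.mono gX2] ([Lt.mono gX] ++ [Lt.mono gX]) = true ∧
    sameW [.mono gXi2] ([Lt.mono gXi] ++ [Lt.mono gXi]) = true ∧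
    sameW [.mono gE4] (List.replicate 4 [Lt.mono gE]).flatten = true ∧
    sameW ([Lt.mono gW] ++ dW 0 1 ++ [Lt.mono gW] ++ dW 0 1) [] = true ∧
    sameW (cand 11 ++ dW 0 1) (dW 0 1 ++ cand 11) = true ∧
    sameW (cand 22 ++ dW 0 1) (dW 0 1 ++ cand 22) = true ∧
    sameW ([Lt.mono gW] ++ [Lt.mono gW]) [] = true ∧
    movedP (cand 11) = true ∧ movedP (cand 22) = true := by decide +kernel

theorem q_perms : (List.range 66).all killQ = true := by
  have h : (List.range' 0 11).all killQ = true ∧ (List.range' 11 11).all killQ = true ∧
      (List.range' 22 22).all killQ = true ∧ (List.range' 44 22).all killQ = true :=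
    ⟨by decide +kernel, by decide +kernel, by decide +kernel, by decide +kernel⟩
  rw [show List.range 66 = List.range' 0 11 ++ List.range' 11 11 ++ List.range' 22 22 ++ List.range' 44 22
    by decide +kernel, List.all_append, List.all_append, List.all_append, h.1, h.2.1, h.2.2.1, h.2.2.2]
  rfl

theorem q_inv : (List.range 66).all (fun k => (k == 0) || (wWords (cand k)).any movedP) = true := by
  decide +kernel

theorem q_eps : (List.range 66).all (fun k => (k == 0) || (k == 11) || (epsWords (cand k)).any movedP) = true := by
  decide +kernel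

theorem q_rot : (List.range 66).all (fun k => (k == 0) || (k == 22) || (rotWords (cand k)).any movedP) = true := by
  decide +kernel

end Cfsg.Agent.Lib.LeechOut
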