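import Cfsg.Agent.Lib.LeechOut.Diag
import Cfsg.Agent.Lib.LeechOut.Co1Data

/-!
The automorphisms of the quotient by the centre are inner.
-/

set_option autoImplicit false

namespace Cfsg.Agent.Lib.LeechOut

open Cfsg Equiv Cfsg.Agent.Lib.Compute Cfsg.Agent.Lib.Leech MulAction

theorem el_gX2 : el [.mono gX2] = xS * xS ∧ el [.mono gXi2] = xS⁻¹ * xS⁻¹ ∧ el [.mono gE4] = eS ^ 4 ∧
    el [.mono gX5] = xS ^ 5 ∧ el [.mono gXi5] = xS⁻¹ ^ 5 := by
  obtain ⟨-, -, -, -, h1, h2, h3, -⟩ := q_base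
  refine ⟨?_, ?_, ?_, ?_, ?_⟩
  · rw [el_eq_of_sameW h1, el_append, el_gX]
  · rw [el_eq_of_sameW h2, el_append, el_gXi]
  · rw [el_eq_of_sameW h3, ← el_pow, el_gE]
  · rw [el_eq_of_sameW five_ok.1, ← el_pow, el_gX]
  · rw [el_eq_of_sameW five_ok.2.1, ← el_pow, el_gXi]

theorem relQWords_eq (inv : Bool) (c : List Lt)
    (h : RelQ (if inv then (mkQ xS)⁻¹ else mkQ xS) (mkQ eS * mkQ (el c))) :
    ∀ w ∈ relQWords inv c, mkQ (el w) = 1 := by
  obtain ⟨h2, h2', -, h5, h5'⟩ := el_gX2
  intro w hw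
  simp only [relQWords, List.mem_cons, List.not_mem_nil, or_false] at hw
  cases inv
  · rcases hw with rfl | rfl <;> rw [← el_pow] <;>
      simp only [el_append, el_gE, Bool.false_eq_true, if_false, h2, h5, map_mul, map_pow]
    · exact h.2
    · exact h.1
  · rcases hw with rfl | rfl <;> rw [← el_pow] <;>
      simp only [el_append, el_gE, if_true, h2', h5', map_mul, map_pow, map_inv]
    · exact h.2
    · exact h.1

theorem wWords_eq (c : List Lt) : (∀ w ∈ wWords c, mkQ (el w) = 1) ↔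
    (mkQ xS * (mkQ wS * mkQ (el c))) ^ 3 = 1 ∧ ((mkQ wS * mkQ (el c)) * mkQ xS * mkQ eS ^ 4) ^ 10 = 1 := by
  obtain ⟨-, -, h4, -, -⟩ := el_gX2
  simp only [wWords, List.forall_mem_cons, List.mem_nil_iff, false_imp_iff, forall_const, implies_true, and_true, ← el_pow, el_append, el_gX, el_gW, h4,
    map_mul, map_pow]

theorem epsWords_eq (c : List Lt) : (∀ w ∈ epsWords c, mkQ (el w) = 1) ↔
    mkQ (el c) * mkQ (el c) = 1 ∧ (mkQ (el c) * mkQ wS) ^ 2 = 1 := by
  simp only [epsWords, List.forall_mem_cons, List.mem_nil_iff, false_imp_iff, forall_const, implies_true, and_true, ← el_pow, el_append, el_gW,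
    map_mul, map_pow]

theorem rotWords_eq (c : List Lt) : (∀ w ∈ rotWords c, mkQ (el w) = 1) ↔
    mkQ (el c) * mkQ (el c) * mkQ (el c) = 1 ∧
    (mkQ (el c) * mkQ xS * mkQ xS ^ 5 * mkQ eS) ^ 7 = 1 := by
  obtain ⟨-, -, -, h5, -⟩ := el_gX2
  simp only [rotWords, List.forall_mem_cons, List.mem_nil_iff, false_imp_iff, forall_const, implies_true, and_true, ← el_pow, el_append, el_gX, el_gE, h5,
    map_mul, map_pow]

theorem false_of_any {W : List (List Lt)} (h : W.any movedP = true) (h1 : ∀ w ∈ W, mkQ (el w) = 1) : False := by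
  obtain ⟨w, hw, hm⟩ := List.any_eq_true.1 h
  exact mkQ_ne_one_of_movedP hm (h1 w hw)

theorem out_co1 : Nat.card (Cfsg.Out (↥Co0 ⧸ Subgroup.center ↥Co0)) = 1 := by
  haveI := finite_co0
  obtain ⟨b1, b2, b3, b4, -, -, -, hwd, hed, htd, hww, hem, htm⟩ := q_base
  have hbase : ∀ {W : List (List Lt)}, W.all sameP = true → ∀ w ∈ W, mkQ (el w) = 1 := fun h w hw =>
    mkQ_eq_one_of_sameP (List.all_eq_true.1 h w hw)
  set X := mkQ xS with hX
  set D := mkQ dS with hD
  set E := mkQ eS with hE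
  set W := mkQ wS with hW
  set P := mkQ (el (cand 11)) with hP
  set T := mkQ (el (cand 22)) with hT
  have hcard : Nat.card (↥Co0 ⧸ Subgroup.center ↥Co0) = 4157776806543360000 := (Cfsg.Agent.S0399.result).2
  have hone : mkQ (el (cand 0)) = 1 := by rw [el_eq_of_sameW cand_zero, el_nil, map_one]
  have hRel : RelQ X E := by
    have h := hbase b1
    simp only [relQWords, List.forall_mem_cons, List.mem_nil_iff, false_imp_iff, forall_const, implies_true, and_true, Bool.false_eq_true, if_false,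
      ← el_pow, el_append, el_nil, mul_one, el_gE, el_gX2.1, el_gX2.2.2.2.1, map_mul, map_pow] at h
    exact ⟨h.2, h.1⟩
  have hWD : W * D * W * D = 1 := by
    rw [hW, hD, ← map_mul, ← map_mul, ← map_mul, ← el_gW, ← el_dW, ← el_append, ← el_append, ← el_append,
      el_eq_of_sameW hwd, el_nil, map_one]
  have hWW : W * W = 1 := by
    rw [hW, ← map_mul, ← el_gW, ← el_append, el_eq_of_sameW hww, el_nil, map_one]
  have hPD : P * D = D * P := by
    rw [hP, hD, ← map_mul, ← map_mul, ← el_dW, ← el_append, ← el_append, el_eq_of_sameW hed]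
  have hTD : T * D = D * T := by
    rw [hT, hD, ← map_mul, ← map_mul, ← el_dW, ← el_append, ← el_append, el_eq_of_sameW htd]
  have hWrel : (X * W) ^ 3 = 1 ∧ (W * X * E ^ 4) ^ 10 = 1 := by
    have h := (wWords_eq []).1 (hbase b2)
    simpa only [el_nil, map_one, mul_one] using h
  have hPrel := (epsWords_eq (cand 11)).1 (hbase b3)
  have hTrel := (rotWords_eq (cand 22)).1 (hbase b4)
  refine card_out_eq_one fun φ => ?_
  obtain ⟨g, hx, hd, he⟩ := exists_fix_three (R := RelQ) (x := X) (d := D) (e := E) orderOf_mkQ_xS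
    (by rw [hcard]; norm_num) (by rw [hX, hD, ← map_inv, ← map_mul, ← map_mul, ← map_pow, dS_xS.1])
    (by rw [hE, hD, ← map_inv, ← map_mul, ← map_mul, ← map_pow, dS_xS.2]) centralizer_xQ
    (fun f a b h => ⟨by rw [← map_pow f a 5, ← map_mul, ← map_mul, ← map_pow, h.1, map_one],
      by rw [← map_mul, ← map_mul, ← map_pow, h.2, map_one]⟩) hRel
    (fun h hc hR => by
      obtain ⟨k, hk, rfl⟩ := candQ hc
      have h1 := List.all_eq_true.1 q_perms k (List.mem_range.2 hk)
      simp only [killQ, Bool.and_eq_true, Bool.or_eq_true, beq_iff_eq] at h1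
      rcases h1.1 with rfl | h2
      · exact hone
      · exact (false_of_any h2 (relQWords_eq false _ hR)).elim)
    (fun h hc hR => by
      obtain ⟨k, hk, rfl⟩ := candQ hc
      have h1 := List.all_eq_true.1 q_perms k (List.mem_range.2 hk)
      simp only [killQ, Bool.and_eq_true] at h1
      exact false_of_any h1.2 (relQWords_eq true _ hR)) φ
  obtain ⟨ψ, hinj, hψ⟩ := conj_map φ g
  have hψx : ψ X = X := (hψ _).trans hx
  have hψd : ψ D = D := (hψ _).trans hd
  have hψe : ψ E = E := (hψ _).trans he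
  -- the inversion
  have hwc : (W⁻¹ * ψ W) * D = D * (W⁻¹ * ψ W) := by
    have e1 : ψ W * D * ψ W * D = 1 := by rw [← hψd, ← map_mul, ← map_mul, ← map_mul, hWD, map_one]
    have e2 : ψ W * ψ W = 1 := by rw [← map_mul, hWW, map_one]
    have e3 : ψ W * D = D⁻¹ * ψ W := by
      calc ψ W * D = (ψ W * D * ψ W * D) * D⁻¹ * (ψ W)⁻¹ := by group
        _ = D⁻¹ * (ψ W * ψ W)⁻¹ * ψ W := by rw [e1]; group
        _ = D⁻¹ * ψ W := by rw [e2, inv_one, mul_one]
    have e4 : W⁻¹ * D⁻¹ = D * W⁻¹ := by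
      calc W⁻¹ * D⁻¹ = W⁻¹ * (W * D * W * D) * D⁻¹ := by rw [hWD, mul_one]
        _ = D * (W * W) * W⁻¹ := by group
        _ = D * W⁻¹ := by rw [hWW, mul_one]
    rw [mul_assoc, e3, ← mul_assoc, e4, mul_assoc]
  have hψw : ψ W = W := by
    obtain ⟨k, hk, hke⟩ := candQ hwc
    have h1 := List.all_eq_true.1 q_inv k (List.mem_range.2 hk)
    simp only [Bool.or_eq_true, beq_iff_eq] at h1
    rcases h1 with rfl | h1
    · exact (inv_mul_eq_one.1 (hke.trans hone)).symm
    · refine (false_of_any h1 ((wWords_eq _).2 ?_)).elim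
      rw [← hke, show W * (W⁻¹ * ψ W) = ψ W by group]
      refine ⟨?_, ?_⟩
      · show (X * ψ W) ^ 3 = 1
        rw [← hψx, ← map_mul, ← map_pow, hWrel.1, map_one]
      · show (ψ W * X * E ^ 4) ^ 10 = 1
        rw [← hψx, ← hψe, ← map_pow ψ E 4, ← map_mul, ← map_mul, ← map_pow, hWrel.2, map_one]
  have hPne : P ≠ 1 := mkQ_ne_one_of_movedP hem
  have hTne : T ≠ 1 := mkQ_ne_one_of_movedP htm
  have hψp : ψ P = P := by
    obtain ⟨k, hk, hke⟩ := candQ (show ψ P * D = D * ψ P by rw [← hψd, ← map_mul, hPD, map_mul])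
    have h1 := List.all_eq_true.1 q_eps k (List.mem_range.2 hk)
    simp only [Bool.or_eq_true, beq_iff_eq] at h1
    rcases h1 with (rfl | rfl) | h1
    · exact absurd (hinj ((hke.trans hone).trans (map_one ψ).symm)) hPne
    · exact hke
    · refine (false_of_any h1 ((epsWords_eq _).2 ?_)).elim
      rw [← hke]
      refine ⟨?_, ?_⟩
      · rw [← map_mul, hPrel.1, map_one]
      · show (ψ P * W) ^ 2 = 1
        rw [← hψw, ← map_mul, ← map_pow, hPrel.2, map_one]
  have hψt : ψ T = T := by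
    obtain ⟨k, hk, hke⟩ := candQ (show ψ T * D = D * ψ T by rw [← hψd, ← map_mul, hTD, map_mul])
    have h1 := List.all_eq_true.1 q_rot k (List.mem_range.2 hk)
    simp only [Bool.or_eq_true, beq_iff_eq] at h1
    rcases h1 with (rfl | rfl) | h1
    · exact absurd (hinj ((hke.trans hone).trans (map_one ψ).symm)) hTne
    · exact hke
    · refine (false_of_any h1 ((rotWords_eq _).2 ?_)).elim
      rw [← hke]
      refine ⟨?_, ?_⟩
      · rw [← map_mul, ← map_mul, hTrel.1, map_one]
      · show (ψ T * X * X ^ 5 * E) ^ 7 = 1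
        rw [← hψx, ← hψe, ← map_pow ψ X 5, ← map_mul, ← map_mul, ← map_mul, ← map_pow, hTrel.2, map_one]
  refine MathieuOut.mem_inn_of_closure (S := {X, E, W, P, T}) ?_ φ g ?_
  · set H := Subgroup.closure ({X, E, W, P, T} : Set (↥Co0 ⧸ Subgroup.center ↥Co0)) with hH
    have hK : H.comap mkQ = ⊤ := by
      refine eq_top_of_mem _ ?_ (Subgroup.subset_closure (by simp [hW])) ?_
        (Subgroup.subset_closure (by simp [hP])) (Subgroup.subset_closure (by simp [hT]))
      · intro π hπ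
        have hmem : (⟨π, hπ⟩ : ↥(stabilizer ↥M24 pT)) ∈ Subgroup.closure ({shiftT, ctwT} : Set _) := by
          rw [closure_stab]; trivial
        let f : ↥(stabilizer ↥M24 pT) →* ↥Co0 ⧸ Subgroup.center ↥Co0 :=
          mkQ.comp (permHom.comp (stabilizer ↥M24 pT).subtype)
        have h2 := Subgroup.mem_map_of_mem f hmem
        rw [MonoidHom.map_closure, Set.image_pair] at h2
        exact Subgroup.closure_mono (by
          rintro z (rfl | rfl)
          · exact Set.mem_insert _ _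
          · exact Set.mem_insert_of_mem _ (Set.mem_insert _ _)) h2
      · show mkQ (el [.mono gN]) ∈ H
        rw [mkQ_gN]
        exact one_mem H
    rw [eq_top_iff]
    intro q _
    obtain ⟨a, rfl⟩ := QuotientGroup.mk'_surjective (Subgroup.center ↥Co0) q
    exact (show a ∈ H.comap mkQ by rw [hK]; trivial)
  · rintro z (rfl | rfl | rfl | rfl | rfl) <;> rw [← hψ]
    exacts [hψx, hψe, hψw, hψp, hψt]

end Cfsg.Agent.Lib.LeechOut
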