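import Cfsg.Agent.Lib.LeechOut.Base
import Cfsg.Agent.S0402

/-!
The automorphisms of the stabiliser of a shortest vector are inner.
-/

set_option autoImplicit false

namespace Cfsg.Agent.Lib.LeechOut

open Cfsg Equiv Cfsg.Agent.Lib.Compute Cfsg.Agent.Lib.Leech MulAction

/-- The shortest vector without zero coordinate. -/
abbrev fourL : List ℤ := Cfsg.Agent.S0402.oddFour

theorem two_perms : (List.range 132).all (killOk fourL) = true := by
  have h : (List.range' 0 8).all (killOk fourL) = true ∧ (List.range' 8 124).all (killOk fourL) = true :=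
    ⟨by decide +kernel, by decide +kernel⟩
  rw [show List.range 132 = List.range' 0 8 ++ List.range' 8 124 by decide +kernel, List.all_append, h.1, h.2]
  rfl

/-- An element inverting the doubling map. -/
def fW : List Lt := cand 93 ++ [.mono gW]

/-- The relation word. -/
def fRel (k : ℕ) : List Lt := (List.replicate 9 (fW ++ cand k ++ [.mono gXi] ++ [.mono gE])).flatten

theorem two_kill : (List.range 132).all (fun k => !fixesW (cand k) fourL || (k == 0) || movedW (fRel k)) = true := by
  decide +kernel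

theorem two_gen : fW.all Lt.good = true ∧ fixesW fW fourL = true ∧
    sameW (fW ++ dW 0 1 ++ fW ++ dW 0 1) (fW ++ fW) = true ∧ sameW (fRel 0) [] = true := by decide +kernel

/-- A permutation. -/
def twoPerm : MGen := (0x17000a0011000c00120013000d000f0007001000140002000800010005000e00000015000400160009000b00030006, 0x1700040006000d001200130015000e0010000800110014000200160003000b000f0000000900050001000c000a0007, 0x0)

/-- A word moving the last frame vector far. -/
def twoWord : List Lt :=
  [.mono twoPerm] ++ fW ++ [.mono gX] ++ [.mono gX] ++ [.mono gX] ++ fW ++ [.mono gX] ++ [.mono gX] ++ [.mono gX] ++ fW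

theorem two_word_ok : twoWord.all Lt.good = true ∧ genGood twoPerm = true ∧ twoPerm.2.2 = 0 ∧
    app twoPerm.1 23 = 23 ∧ levelMasks (actW twoWord (unitL 8 23)) =
      [(0x9, 0x9), (0x2, 0x2), (0xa2054, 0xa2054), (0x75dfa0, 0x75dfa0), (0x800000, 0x800000)] := by decide +kernel

theorem two_orbit : Cfsg.Agent.Lib.M24Geom.patternCount 24 [(23, 23)]
    (levelMasks (actW twoWord (unitL 8 23))) m24Cert id ≤ 58 := by
  rw [two_word_ok.2.2.2.2]
  decide +kernel

/-- The vector. -/
noncomputable abbrev vTwo : ↥leechLattice := ⟨vecOf fourL, Cfsg.Agent.S0402.oddFour_mem⟩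

theorem special_two : Special vTwo fourL 1 := by
  obtain ⟨-, -, hone, hlast, -⟩ := Cfsg.Agent.S0402.four_facts
  refine ⟨fun q hq => hone (enc q) fun e => hq ?_, by norm_num, ?_, by decide +kernel⟩
  · rw [pT, ← e, Equiv.symm_apply_apply]
  · show fourL.getD (enc (enc.symm 23) : Fin 24) 0 ≠ 0
    rw [Equiv.apply_symm_apply, show ((23 : Fin 24) : ℕ) = 23 from rfl, hlast]
    norm_num

theorem out_two : Nat.card (Cfsg.Out ↥(stabilizer ↥Co0 vTwo)) = 1 := by
  haveI := finite_co0
  have hsq : sqNorm (vTwo : GolayPt → ℤ) = 32 := Cfsg.Agent.S0402.four_facts.1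
  have hcard : Nat.card ↥(stabilizer ↥Co0 vTwo) = 42305421312000 := (Cfsg.Agent.S0402.result _ hsq).2
  have hn23 : ¬ 23 ^ 2 ∣ Nat.card ↥(stabilizer ↥Co0 vTwo) := by rw [hcard]; norm_num
  obtain ⟨hgood, hfix, hconj, hrel0⟩ := two_gen
  set t : ↥(stabilizer ↥Co0 vTwo) := ⟨el fW, mem_of_word special_two.list hgood hfix⟩ with ht
  set x := permIn special_two shiftT with hxdef
  set d := permIn special_two dblT with hddef
  set e := permIn special_two ctwT with hedef
  have htd : t * d * t * d = t * t := Subtype.ext (by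
    show el fW * dS * el fW * dS = el fW * el fW
    rw [← el_dW, ← el_append, ← el_append, ← el_append, ← el_append, el_eq_of_sameW hconj])
  have hrel : (t * x⁻¹ * e) ^ 9 = 1 := Subtype.ext (by
    show (el fW * xS⁻¹ * eS) ^ 9 = 1
    have h := el_eq_of_sameW hrel0
    rw [fRel, ← el_pow, el_append, el_append, el_append, el_eq_of_sameW cand_zero, el_nil, mul_one,
      el_gXi, el_gE] at h
    exact h)
  refine card_out_eq_one fun φ => ?_
  obtain ⟨g, hx, hd, he⟩ := exists_fix_perms special_two hn23 two_perms φ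
  refine inner_of_fix special_two t (fun H hH htH => ?_) φ g hx he ?_
  · obtain ⟨hwg, hpg, hpm, hp23, -⟩ := two_word_ok
    obtain ⟨π, hπ⟩ := exists_perm_letter hpg hpm hp23
    have hxH : x ∈ H := hH ⟨_, rfl⟩
    refine eq_top_of_orbit special_two hcard (by norm_num) H hH hwg
      (permIn special_two π * t * x * x * x * t * x * x * x * t) ?_ ?_ (fun y hy => card_stab_le y hy two_orbit) (by norm_num)
    · show permHom π.1 * el fW * xS * xS * xS * el fW * xS * xS * xS * el fW = el twoWord
      simp only [twoWord, el_append, hπ, el_gX]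
    · exact mul_mem (mul_mem (mul_mem (mul_mem (mul_mem (mul_mem (mul_mem (mul_mem (mul_mem (hH ⟨_, rfl⟩) htH)
        hxH) hxH) hxH) htH) hxH) hxH) hxH) htH
  obtain ⟨ψ, hinj, hψ⟩ := conj_map φ g
  rw [← hψ]
  have hψx : ψ x = x := (hψ _).trans hx
  have hψd : ψ d = d := (hψ _).trans hd
  have hψe : ψ e = e := (hψ _).trans he
  have e2 : d * t = t * d⁻¹ := by
    calc d * t = t⁻¹ * (t * d * t * d) * d⁻¹ := by group
      _ = t * d⁻¹ := by rw [htd]; group
  have e4 : d * ψ t = ψ t * d⁻¹ := by
    have := congrArg ψ e2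
    rwa [map_mul, map_mul, map_inv, hψd] at this
  have hc : (t⁻¹ * ψ t) * d = d * (t⁻¹ * ψ t) := by
    have e3 : t⁻¹ * d⁻¹ = d * t⁻¹ := by
      calc t⁻¹ * d⁻¹ = (d * t)⁻¹ := by group
        _ = (t * d⁻¹)⁻¹ := by rw [e2]
        _ = d * t⁻¹ := by group
    calc t⁻¹ * ψ t * d = t⁻¹ * d⁻¹ * (d * ψ t) * d := by group
      _ = d * t⁻¹ * (ψ t * d⁻¹) * d := by rw [e3, e4]
      _ = d * (t⁻¹ * ψ t) := by group
  obtain ⟨k, hk, hke, hkf⟩ := cand_fix special_two hc
  have h1 := List.all_eq_true.1 two_kill k (List.mem_range.2 hk)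
  simp only [hkf, Bool.not_true, Bool.false_or, Bool.or_eq_true, beq_iff_eq] at h1
  rcases h1 with rfl | h1
  · refine (inv_mul_eq_one.1 (Subtype.ext ?_)).symm
    rw [hke, el_eq_of_sameW cand_zero]
    rfl
  · exfalso
    refine el_ne_one_of_movedW h1 ?_
    have h3 : (ψ t * x⁻¹ * e) ^ 9 = 1 := by
      rw [← hψx, ← hψe, ← map_inv, ← map_mul, ← map_mul, ← map_pow, hrel, map_one]
    rw [show ψ t = t * (t⁻¹ * ψ t) by group] at h3
    have h4 := congrArg Subtype.val h3
    simp only [Subgroup.coe_pow, Subgroup.coe_mul, Subgroup.coe_inv] at h4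
    rw [← Subgroup.coe_inv, ← Subgroup.coe_mul, hke] at h4
    rw [fRel, ← el_pow, el_append, el_append, el_append, el_gXi, el_gE]
    exact h4

end Cfsg.Agent.Lib.LeechOut
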