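import Cfsg.Agent.Lib.LeechOut.Base
import Cfsg.Agent.S0403

/-!
The automorphisms of the stabiliser of a vector of the second length are inner.
-/

set_option autoImplicit false

namespace Cfsg.Agent.Lib.LeechOut

open Cfsg Equiv Cfsg.Agent.Lib.Compute Cfsg.Agent.Lib.Leech MulAction

theorem three_perms : (List.range 132).all (killOk baseFive) = true := by
  have h : (List.range' 0 8).all (killOk baseFive) = true ∧ (List.range' 8 92).all (killOk baseFive) = true ∧
      (List.range' 100 32).all (killOk baseFive) = true :=
    ⟨by decide +kernel, by decide +kernel, by decide +kernel⟩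
  rw [show List.range 132 = List.range' 0 8 ++ List.range' 8 92 ++ List.range' 100 32 by decide +kernel,
    List.all_append, List.all_append, h.1, h.2.1, h.2.2]
  rfl

/-- A permutation. -/
def threePerm : MGen := (0x17000f000e000d000a001200090007001100020000001300150016000c00030014000b000600040010000100050008, 0x17000a000b0007000c0012000f00030016001500140009000600130011000000100005000100040008000e0002000d, 0x0)

/-- A word moving the last frame vector far. -/
def threeWord : List Lt := [.mono threePerm] ++ cand 99 ++ [.mono gX] ++ [.mono gX] ++ cand 99 ++ [.mono gXi] ++ cand 99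

theorem three_word_ok : threeWord.all Lt.good = true ∧ genGood threePerm = true ∧ threePerm.2.2 = 0 ∧
    app threePerm.1 23 = 23 := by decide +kernel

theorem three_invol : (List.range 132).all (fun k => !fixesW (cand k) baseFive || (k == 0) || (k == 99) ||
    movedW (cand k ++ cand k)) = true := by decide +kernel

theorem three_gen : (cand 99).all Lt.good = true ∧ fixesW (cand 99) baseFive = true ∧
    movedW (cand 99) = true ∧ sameW (cand 99 ++ cand 99) [] = true ∧
    sameW (cand 99 ++ dW 0 1) (dW 0 1 ++ cand 99) = true := by decide +kernel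

theorem three_orbit : (∏ i : Fin 5, (Finset.univ.filter fun q : Fin 24 =>
    (actW threeWord (unitL 8 23)).getD q 0 = (actW threeWord (unitL 8 23)).getD i 0).card) * 3 ≤ 2600 := by
  decide +kernel

/-- The vector. -/
noncomputable abbrev vThree : ↥leechLattice := ⟨vecOf baseFive, Cfsg.Agent.S0403.five_mem⟩

theorem special_three : Special vThree baseFive (-1) := by
  obtain ⟨hl, -, hone, hfive, -, -⟩ := Cfsg.Agent.S0403.five_facts
  refine ⟨fun q hq => hone (enc q) fun e => hq ?_, by norm_num, ?_, hl⟩
  · rw [pT, ← e, Equiv.symm_apply_apply]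
  · show baseFive.getD (enc (enc.symm 23) : Fin 24) 0 ≠ 0
    rw [Equiv.apply_symm_apply, show ((23 : Fin 24) : ℕ) = 23 from rfl, hfive]
    norm_num

theorem out_three : Nat.card (Cfsg.Out ↥(stabilizer ↥Co0 vThree)) = 1 := by
  haveI := finite_co0
  have hcard : Nat.card ↥(stabilizer ↥Co0 vThree) = 495766656000 := Cfsg.Agent.S0403.isCo3_base.2
  have hn23 : ¬ 23 ^ 2 ∣ Nat.card ↥(stabilizer ↥Co0 vThree) := by rw [hcard]; norm_num
  obtain ⟨hgood, hfix, hmv, hsq, hcom⟩ := three_gen
  set t : ↥(stabilizer ↥Co0 vThree) := ⟨el (cand 99), mem_of_word special_three.list hgood hfix⟩ with ht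
  have htd : t * permIn special_three dblT = permIn special_three dblT * t := Subtype.ext (by
    show el (cand 99) * dS = dS * el (cand 99)
    rw [← el_dW, ← el_append, ← el_append, el_eq_of_sameW hcom])
  have ht2 : t * t = 1 := Subtype.ext (by
    show el (cand 99) * el (cand 99) = 1
    rw [← el_append, el_eq_of_sameW hsq, el_nil])
  refine card_out_eq_one fun φ => ?_
  obtain ⟨g, hx, hd, he⟩ := exists_fix_perms special_three hn23 three_perms φ
  refine inner_of_fix special_three t (fun H hH htH => ?_) φ g hx he ?_
  · obtain ⟨hwg, hpg, hpm, hp23⟩ := three_word_ok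
    obtain ⟨π, hπ⟩ := exists_perm_letter hpg hpm hp23
    set x := permIn special_three shiftT
    have hxH : x ∈ H := hH ⟨_, rfl⟩
    refine eq_top_of_orbit special_three hcard (by norm_num) H hH hwg
      (permIn special_three π * t * x * x * t * x⁻¹ * t) ?_ ?_ (fun y hy => card_stab_le_five y hy three_orbit) (by norm_num)
    · show permHom π.1 * el (cand 99) * xS * xS * el (cand 99) * xS⁻¹ * el (cand 99) = el threeWord
      rw [threeWord, el_append, el_append, el_append, el_append, el_append, el_append, hπ, el_gXi, el_gX]
    · exact mul_mem (mul_mem (mul_mem (mul_mem (mul_mem (mul_mem (hH ⟨_, rfl⟩) htH) hxH) hxH) htH) (inv_mem hxH)) htH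
  obtain ⟨ψ, hinj, hψ⟩ := conj_map φ g
  rw [← hψ]
  have hc : ψ t * permIn special_three dblT = permIn special_three dblT * ψ t := by
    rw [← show ψ (permIn special_three dblT) = permIn special_three dblT from (hψ _).trans hd,
      ← map_mul, ← map_mul, htd]
  obtain ⟨k, hk, hke, hkf⟩ := cand_fix special_three hc
  have h1 := List.all_eq_true.1 three_invol k (List.mem_range.2 hk)
  simp only [hkf, Bool.not_true, Bool.false_or, Bool.or_eq_true, beq_iff_eq] at h1
  rcases h1 with (rfl | rfl) | h1
  · exfalso
    have h2 : t = 1 := hinj (by rw [map_one]; exact Subtype.ext (hke.trans ((el_eq_of_sameW cand_zero).trans el_nil)))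
    exact el_ne_one_of_movedW hmv (congrArg Subtype.val h2)
  · exact Subtype.ext hke
  · exfalso
    refine el_ne_one_of_movedW h1 ?_
    rw [el_append, ← hke, ← Subgroup.coe_mul, ← map_mul, ht2, map_one]
    rfl

end Cfsg.Agent.Lib.LeechOut
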