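import Cfsg.Agent.Lib.LeechOut.Proj
import Cfsg.Agent.Lib.Leech.CrossMaximal

/-!
Generation of the automorphism group by the permutations, a dodecad sign change and a rotation.
-/

set_option autoImplicit false

namespace Cfsg.Agent.Lib.LeechOut

open Cfsg Equiv Cfsg.Agent.Lib.Compute Cfsg.Agent.Lib.Leech MulAction

/-- A sign change. -/
def dgl (m : ℕ) : List Lt := [.mono (gN.1, gN.1, m)]

theorem dgl_good {m : ℕ} (h : inCode m = true) : genGood (gN.1, gN.1, m) = true := by
  have h0 := gN_good.1
  simp only [genGood, Bool.and_eq_true] at h0 ⊢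
  exact ⟨⟨⟨h0.1.1.1, h0.1.1.1⟩, h0.1.2⟩, h⟩

theorem dgl_apply {m : ℕ} (h : inCode m = true) (v : ↥leechLattice) :
    ((el (dgl m) • v : ↥leechLattice) : GolayPt → ℤ) = signedPerm 1 (setOf24 m) (v : GolayPt → ℤ) := by
  rw [dgl, mono_apply (dgl_good h), toGP_ide]

theorem red_xor : ∀ (l : List (ℕ × ℕ)) (a b : ℕ), red l (a ^^^ b) = red l a ^^^ red l b
  | [], _, _ => rfl
  | (c, p) :: l, a, b => by
    simp only [red, Nat.testBit_xor]
    cases a.testBit p <;> cases b.testBit p <;> simp only [Bool.xor, bne_self_eq_false, Bool.false_bne,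
      Bool.bne_false, Bool.false_eq_true, if_false, if_true] <;> rw [← red_xor l] <;> congr 1 <;>
      refine Nat.eq_of_testBit_eq fun i => ?_ <;> simp only [Nat.testBit_xor] <;>
      cases c.testBit i <;> cases a.testBit i <;> cases b.testBit i <;> rfl

theorem inCode_xor {a b : ℕ} (ha : inCode a = true) (hb : inCode b = true) : inCode (a ^^^ b) = true := by
  simp only [inCode, beq_iff_eq] at *
  rw [red_xor, ha, hb]
  rfl

theorem el_dgl_mul {a b : ℕ} (ha : inCode a = true) (hb : inCode b = true) :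
    el (dgl a) * el (dgl b) = el (dgl (a ^^^ b)) := by
  refine co0_ext fun v => funext fun q => ?_
  rw [mul_smul, dgl_apply ha, dgl_apply hb, dgl_apply (inCode_xor ha hb)]
  simp only [signedPerm, mem_setOf24, Equiv.Perm.one_symm, Equiv.Perm.one_apply, Nat.testBit_xor]
  cases a.testBit (enc q) <;> cases b.testBit (enc q) <;> simp

/-- The translate of the dodecad. -/
def trMask (i : ℕ) : ℕ :=
  if i = 23 then 0xffffff else Nat.ofBits fun j : Fin 24 => epsMask.testBit (app (gShifts.getD i (0, 0, 0)).2.1 j)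

/-- The element of a translate. -/
def trWord (i : ℕ) : List Lt :=
  [.mono (gShifts.getD i (0, 0, 0))] ++ cand 11 ++ [.mono (gShifts.getD ((23 - i) % 23) (0, 0, 0))]

theorem tr_ok : (List.range 23).all (fun i => genGood (gShifts.getD i (0, 0, 0)) &&
    ((gShifts.getD i (0, 0, 0)).2.2 == 0) && (app (gShifts.getD i (0, 0, 0)).1 23 == 23) &&
    inCode (trMask i) && sameW (trWord i) (dgl (trMask i))) = true := by decide +kernel

theorem basis_ok : (List.range 12).all (fun j => (spanComb.getD j []).all (fun i => decide (i < 24)) &&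
    ((spanComb.getD j []).foldr (fun i r => trMask i ^^^ r) 0 ==
      ((golayBasis.reverse.map Prod.fst).reverse).getD j 0)) = true ∧
    ((golayBasis.reverse.map Prod.fst).reverse).length = 12 := by decide +kernel

theorem inv_reach : ∀ q : GolayPt, q ≠ pT → ∃ i : Fin 23,
    (MathieuOut.shift ^ (i : ℕ)) (projInv pT) = q := by
  decide +kernel

theorem rot_moves : (cand 22).all Lt.good = true ∧ (actW (cand 22) (unitL 8 23)).getD 23 0 = -4 := by
  decide +kernel

/-- **Generation.** -/
theorem eq_top_of_mem (K : Subgroup ↥Co0) (hperm : ∀ π : ↥M24, π • pT = pT → permHom π ∈ K)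
    (hw : wS ∈ K) (hn : el [.mono gN] ∈ K) (he : el (cand 11) ∈ K) (ht : el (cand 22) ∈ K) : K = ⊤ := by
  have hM : ∀ π : ↥M24, permHom π ∈ K := by
    intro π
    by_cases hπ : π • pT = pT
    · exact hperm π hπ
    obtain ⟨i, hi⟩ := inv_reach (π • pT) hπ
    have h1 : permHom (shiftM ^ (i : ℕ) * invM) ∈ K := by
      rw [map_mul, map_pow]
      exact mul_mem (Subgroup.pow_mem _ (hperm shiftM last_fixed.1) _) hw
    have h2 : ((shiftM ^ (i : ℕ) * invM)⁻¹ * π) • pT = pT := by
      rw [mul_smul, inv_smul_eq_iff, ← hi]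
      rfl
    have h3 := mul_mem h1 (hperm _ h2)
    rwa [← map_mul, mul_inv_cancel_left] at h3
  have htr : ∀ i < 24, inCode (trMask i) = true ∧ el (dgl (trMask i)) ∈ K := by
    intro i hi
    by_cases h : i = 23
    · subst h
      refine ⟨by decide +kernel, ?_⟩
      have : el (dgl (trMask 23)) = el [.mono gN] := el_eq_of_sameW (by decide +kernel)
      rw [this]
      exact hn
    have hmem : ∀ j, j < 23 → el [.mono (gShifts.getD j (0, 0, 0))] ∈ K := by
      intro j hj
      have h := List.all_eq_true.1 tr_ok j (List.mem_range.2 hj)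
      simp only [Bool.and_eq_true, beq_iff_eq] at h
      obtain ⟨π, hπ⟩ := exists_perm_letter h.1.1.1.1 h.1.1.1.2 h.1.1.2
      rw [hπ]
      exact hM _
    have h := List.all_eq_true.1 tr_ok i (List.mem_range.2 (by omega))
    simp only [Bool.and_eq_true, beq_iff_eq] at h
    refine ⟨h.1.2, ?_⟩
    rw [← el_eq_of_sameW h.2, trWord, el_append, el_append]
    exact mul_mem (mul_mem (hmem i (by omega)) he) (hmem _ (Nat.mod_lt _ (by norm_num)))
  have hfold : ∀ L : List ℕ, (∀ i ∈ L, i < 24) →
      inCode (L.foldr (fun i r => trMask i ^^^ r) 0) = true ∧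
      el (dgl (L.foldr (fun i r => trMask i ^^^ r) 0)) ∈ K := by
    intro L
    induction L with
    | nil =>
      intro _
      refine ⟨by decide +kernel, ?_⟩
      rw [show el (dgl (List.foldr (fun i r => trMask i ^^^ r) 0 [])) = 1 from
        (el_eq_of_sameW (by decide +kernel)).trans el_nil]
      exact one_mem K
    | cons a L ih =>
      intro h
      obtain ⟨h1, h2⟩ := ih fun i hi => h i (List.mem_cons_of_mem _ hi)
      obtain ⟨h3, h4⟩ := htr a (h a List.mem_cons_self)
      refine ⟨inCode_xor h3 h1, ?_⟩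
      rw [List.foldr_cons, ← el_dgl_mul h3 h1]
      exact mul_mem h4 h2
  have hbasis : ∀ b ∈ (golayBasis.reverse.map Prod.fst).reverse,
      inCode b = true ∧ el (dgl b) ∈ K := by
    intro b hb
    obtain ⟨j, hj, rfl⟩ := List.mem_iff_getElem.1 hb
    have h := List.all_eq_true.1 basis_ok.1 j (List.mem_range.2 (by rw [← basis_ok.2]; exact hj))
    simp only [Bool.and_eq_true, beq_iff_eq, List.all_eq_true, decide_eq_true_eq] at h
    rw [← List.getD_eq_getElem _ 0 hj, ← h.2]
    exact hfold _ h.1
  have hspan : ∀ B : List ℕ, (∀ b ∈ B, inCode b = true ∧ el (dgl b) ∈ K) →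
      ∀ m ∈ spanList B, inCode m = true ∧ el (dgl m) ∈ K := by
    intro B
    induction B with
    | nil =>
      intro _ m hm
      rw [spanList, List.mem_singleton] at hm
      subst hm
      refine ⟨by decide +kernel, ?_⟩
      rw [show el (dgl 0) = 1 from (el_eq_of_sameW (by decide +kernel)).trans el_nil]
      exact one_mem K
    | cons b B ih =>
      intro h m hm
      obtain ⟨hb1, hb2⟩ := h b List.mem_cons_self
      have ih' := ih fun x hx => h x (List.mem_cons_of_mem _ hx)
      rw [spanList, List.mem_append, List.mem_map] at hm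
      rcases hm with hm | ⟨x, hx, rfl⟩
      · exact ih' m hm
      · obtain ⟨hx1, hx2⟩ := ih' x hx
        refine ⟨inCode_xor hb1 hx1, ?_⟩
        rw [← el_dgl_mul hb1 hx1]
        exact mul_mem hb2 hx2
  have hcross : crossGrp ≤ K := by
    intro g hg
    obtain ⟨π, c, hc, happ⟩ := exists_frame_crossGrp hg
    rw [supports_golayCode] at hc
    obtain ⟨m, hm, rfl⟩ := hc
    obtain ⟨hm1, hm2⟩ := hspan _ hbasis m hm
    have : g = el (dgl m) * permHom π := by
      refine co0_ext fun v => funext fun q => ?_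
      rw [happ, mul_smul, dgl_apply hm1]
      simp [signedPerm, permHom_apply, Equiv.Perm.one_def, Equiv.refl_symm]
    rw [this]
    exact mul_mem hm2 (hM π)
  refine eq_top_of_gt (lt_of_le_of_ne hcross fun e => ?_)
  obtain ⟨q, s, hs, hq⟩ := mem_crossGrp.1 (e ▸ ht : el (cand 22) ∈ crossGrp) pT
  have h2 := congrFun hq pT
  have h3 : (actW (cand 22) (unitL 8 23)).getD ((23 : Fin 24) : ℕ) 0 = -4 := rot_moves.2
  have h4 : ((el (cand 22) • eightAt pT : ↥leechLattice) : GolayPt → ℤ) pT = -4 := by
    rw [pT, ← listOf_getD ((el (cand 22) • eightAt (enc.symm 23) : ↥leechLattice) : GolayPt → ℤ) 23,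
      el_spec rot_moves.1, listOf_eightAt]
    exact h3
  rw [h4] at h2
  by_cases hqT : q = enc.symm 23
  · subst hqT
    rw [Pi.single_eq_same] at h2
    omega
  · rw [Pi.single_eq_of_ne (Ne.symm hqT)] at h2
    omega

end Cfsg.Agent.Lib.LeechOut
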