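import Cfsg.Prelude.Def_KGroupFacts
import Mathlib.GroupTheory.Sylow
import Mathlib.Tactic.NormNum.Prime
import Mathlib.Data.Nat.Factorization.Basic

/-!
Normalising an automorphism on a subgroup `23:11` and one more generator.
-/

set_option autoImplicit false

namespace Cfsg.Agent.Lib.LeechOut

open Subgroup

theorem two_pow_orbit : ∀ k : Fin 23, k ≠ 0 → ∃ i : Fin 11,
    (k : ℕ) * 2 ^ (i : ℕ) % 23 = 1 ∨ (k : ℕ) * 2 ^ (i : ℕ) % 23 = 22 := by
  decide +kernel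

theorem conj_pow_two {G : Type*} [Group G] {x d : G} (hxd : d * x * d⁻¹ = x ^ 2) (k : ℕ) :
    ∀ i : ℕ, d ^ i * x ^ k * (d ^ i)⁻¹ = x ^ (k * 2 ^ i) := by
  intro i
  induction i with
  | zero => simp
  | succ i ih =>
    rw [pow_succ', show d * d ^ i * x ^ k * (d * d ^ i)⁻¹ = d * (d ^ i * x ^ k * (d ^ i)⁻¹) * d⁻¹ by group,
      ih, ← conj_pow, hxd, ← pow_mul]
    congr 1
    rw [pow_succ]; ring

/-- Up to an inner automorphism an automorphism fixes `x`, `d` and `e`. -/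
theorem exists_fix_three {G : Type*} [Group G] [Finite G] {x d e : G} (hx : orderOf x = 23)
    (h23 : ¬ 23 ^ 2 ∣ Nat.card G) (hxd : d * x * d⁻¹ = x ^ 2) (hde : e * d * e⁻¹ = d ^ 3)
    (hcent : ∀ h : G, h * x = x * h → h ∈ zpowers x)
    (R : G → G → Prop) (hR : ∀ (f : G →* G) (a b : G), R a b → R (f a) (f b)) (hrel : R x e)
    (kill : ∀ h : G, h * d = d * h → R x (e * h) → h = 1)
    (kill' : ∀ h : G, h * d = d * h → ¬ R x⁻¹ (e * h)) (φ : MulAut G) :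
    ∃ g : G, g * φ x * g⁻¹ = x ∧ g * φ d * g⁻¹ = d ∧ g * φ e * g⁻¹ = e := by
  classical
  haveI : Fact (Nat.Prime 23) := ⟨by norm_num⟩
  have hfac : (Nat.card G).factorization 23 = 1 := by
    have h1 : 23 ∣ Nat.card G := hx ▸ orderOf_dvd_natCard x
    have h0 : Nat.card G ≠ 0 := Nat.card_pos.ne'
    have := (Nat.Prime.dvd_iff_one_le_factorization (Fact.out) h0).mp h1
    by_contra hne
    exact h23 ((Nat.Prime.pow_dvd_iff_le_factorization (Fact.out) h0).mpr (by omega))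
  let P : Sylow 23 G := Sylow.ofCard (zpowers x) (by rw [Nat.card_zpowers, hx, hfac, pow_one])
  let Q : Sylow 23 G := Sylow.ofCard (zpowers (φ x))
    (by rw [Nat.card_zpowers, MulEquiv.orderOf_eq, hx, hfac, pow_one])
  obtain ⟨g, hg⟩ := MulAction.exists_smul_eq G Q P
  have hga : g * φ x * g⁻¹ ∈ zpowers x := by
    have : (P : Subgroup G) = zpowers x := rfl
    rw [← this, ← hg, Sylow.coe_subgroup_smul]
    exact ⟨φ x, mem_zpowers _, rfl⟩
  obtain ⟨k, hk, hk'⟩ : ∃ k < 23, g * φ x * g⁻¹ = x ^ k := by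
    rw [mem_zpowers_iff_mem_range_orderOf, Finset.mem_image] at hga
    obtain ⟨k, hk, hk'⟩ := hga
    exact ⟨k, hx ▸ Finset.mem_range.mp hk, hk'.symm⟩
  have hk0 : (⟨k, hk⟩ : Fin 23) ≠ 0 := by
    intro h0
    have : k = 0 := congrArg Fin.val h0
    rw [this, pow_zero, conj_eq_one_iff, EmbeddingLike.map_eq_one_iff] at hk'
    rw [hk', orderOf_one] at hx
    omega
  obtain ⟨i, hi⟩ := two_pow_orbit ⟨k, hk⟩ hk0
  set g1 : G := d ^ (i : ℕ) * g with hg1
  have hu : g1 * φ x * g1⁻¹ = x ∨ g1 * φ x * g1⁻¹ = x⁻¹ := by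
    have h2 : g1 * φ x * g1⁻¹ = x ^ (k * 2 ^ (i : ℕ)) := by
      rw [← conj_pow_two hxd, ← hk', hg1]; group
    rw [h2, ← pow_mod_orderOf, hx]
    rcases hi with e1 | e1 <;> simp only at e1 <;> rw [e1]
    · exact Or.inl (pow_one x)
    · right
      refine eq_inv_of_mul_eq_one_left ?_
      rw [← pow_succ, show (22 + 1 : ℕ) = orderOf x from hx.symm, pow_orderOf_eq_one]
  set u := g1 * φ x * g1⁻¹ with hudef
  -- the doubling map
  set ψd := g1 * φ d * g1⁻¹ with hψd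
  have hrel2 : ψd * u * ψd⁻¹ = u ^ 2 := by
    rw [hudef, hψd, conj_pow, ← map_pow, ← hxd, map_mul, map_mul, map_inv]
    group
  have hdx : (d⁻¹ * ψd) * x = x * (d⁻¹ * ψd) := by
    have h1 : ∀ w : G, w = x ∨ w = x⁻¹ → d * w * d⁻¹ = w ^ 2 := by
      rintro w (rfl | rfl)
      · exact hxd
      · rw [show d * x⁻¹ * d⁻¹ = (d * x * d⁻¹)⁻¹ by group, hxd, inv_pow]
    have h2 : (d⁻¹ * ψd) * u = u * (d⁻¹ * ψd) := by
      calc (d⁻¹ * ψd) * u = d⁻¹ * (ψd * u * ψd⁻¹) * ψd := by group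
        _ = d⁻¹ * (d * u * d⁻¹) * ψd := by rw [hrel2, h1 u hu]
        _ = u * (d⁻¹ * ψd) := by group
    rcases hu with e1 | e1 <;> rw [e1] at h2
    · exact h2
    · exact (Commute.inv_right_iff.mp h2)
  obtain ⟨j, hj⟩ := mem_zpowers_iff.mp (hcent _ hdx)
  set g2 : G := x ^ (2 * j) * g1 with hg2
  have hux : x ^ (2 * j) * u * (x ^ (2 * j))⁻¹ = u := by
    rcases hu with e1 | e1 <;> rw [e1] <;> group
  have hg2x : g2 * φ x * g2⁻¹ = u := by
    conv_rhs => rw [← hux, hudef]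
    rw [hg2]; group
  have hg2d : g2 * φ d * g2⁻¹ = d := by
    have h12 : d⁻¹ * x * d = x ^ (12 : ℤ) := by
      have h3 : d * x ^ 12 * d⁻¹ = x := by
        rw [← conj_pow, hxd, ← pow_mul, ← pow_mod_orderOf, hx]
        exact pow_one x
      calc d⁻¹ * x * d = d⁻¹ * (d * x ^ 12 * d⁻¹) * d := by rw [h3]
        _ = x ^ 12 := by group
        _ = x ^ (12 : ℤ) := (zpow_natCast x 12).symm
    have h4 : d⁻¹ * x ^ (2 * j) * d = x ^ (24 * j) := by
      have h5 := conj_zpow (i := 2 * j) (a := d⁻¹) (b := x)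
      rw [inv_inv, h12, ← zpow_mul] at h5
      rw [← h5]
      congr 1
      ring
    have h5 : g2 * φ d * g2⁻¹ = d * (d⁻¹ * x ^ (2 * j) * d) * (d⁻¹ * ψd) * (x ^ (2 * j))⁻¹ := by
      rw [hg2, hψd]; group
    rw [h5, h4, ← hj, ← zpow_neg, mul_assoc, mul_assoc, ← zpow_add, ← zpow_add]
    conv_rhs => rw [← mul_one d]
    congr 1
    rw [← zpow_mod_orderOf x, hx, show (24 * j + (j + -(2 * j))) % ((23 : ℕ) : ℤ) = 0 by omega, zpow_zero]
  -- the third generator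
  let ψ : G →* G := (MulAut.conj g2).toMonoidHom.comp φ.toMonoidHom
  have hψ : ∀ z, ψ z = g2 * φ z * g2⁻¹ := fun z => rfl
  have hdh : (e⁻¹ * ψ e) * d = d * (e⁻¹ * ψ e) := by
    have h1 : ψ e * d * (ψ e)⁻¹ = d ^ 3 := by
      conv_lhs => rw [← show ψ d = d from hg2d]
      rw [← map_inv, ← map_mul, ← map_mul, hde, map_pow, show ψ d = d from hg2d]
    calc (e⁻¹ * ψ e) * d = e⁻¹ * (ψ e * d * (ψ e)⁻¹) * ψ e := by group
      _ = e⁻¹ * (e * d * e⁻¹) * ψ e := by rw [h1, hde]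
      _ = d * (e⁻¹ * ψ e) := by group
  have hR2 := hR ψ x e hrel
  rw [show ψ x = u from hg2x, show ψ e = e * (e⁻¹ * ψ e) by group] at hR2
  rcases hu with e1 | e1 <;> rw [e1] at hR2
  · refine ⟨g2, hg2x.trans e1, hg2d, ?_⟩
    have h := kill _ hdh hR2
    rw [inv_mul_eq_one] at h
    exact h.symm
  · exact absurd hR2 (kill' _ hdh)

end Cfsg.Agent.Lib.LeechOut
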