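import Cfsg.Agent.Lib.LeechOut.Base
import Cfsg.Agent.S0399

/-!
Words modulo negation.
-/

set_option autoImplicit false

namespace Cfsg.Agent.Lib.LeechOut

open Cfsg Equiv Cfsg.Agent.Lib.Compute Cfsg.Agent.Lib.Leech MulAction

/-- The quotient map onto the quotient by the centre. -/
noncomputable abbrev mkQ : ↥Co0 →* ↥Co0 ⧸ Subgroup.center ↥Co0 := QuotientGroup.mk' _

/-- The word is neither the identity nor negation. -/
def movedP (w : List Lt) : Bool := movedW w && notNegW w

/-- The word is the identity or negation. -/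
def sameP (w : List Lt) : Bool := sameW w [] || sameW w [.mono gN]

theorem gN_good : genGood gN = true ∧ gN.2.2 = 0xffffff ∧
    ∀ i : Fin 24, app gN.1 i = (i : ℕ) ∧ (0xffffff : ℕ).testBit i = true := by decide +kernel

theorem toGP_ide : toGP (toPerm 24 gN.1) = 1 := by
  refine Equiv.ext fun p => enc.injective (Fin.ext ?_)
  have h := gN_good.1
  simp only [genGood, Bool.and_eq_true] at h
  rw [enc_toGP, repr_toPerm_of_genOk h.1.1.1 (enc p), (gN_good.2.2 (enc p)).1]
  rfl

theorem el_gN_smul (v : ↥leechLattice) : el [.mono gN] • v = -v := by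
  refine Subtype.ext (funext fun q => ?_)
  rw [mono_apply gN_good.1, toGP_ide, gN_good.2.1, AddSubgroup.coe_neg]
  simp [signedPerm, mem_setOf24, (gN_good.2.2 (enc q)).2, Equiv.Perm.one_symm]

theorem el_gN_mem : el [.mono gN] ∈ Subgroup.center ↥Co0 :=
  Subgroup.mem_center_iff.mpr fun g => co0_ext fun v => by
    rw [mul_smul, mul_smul, el_gN_smul, el_gN_smul, co0_neg]

theorem mkQ_gN : mkQ (el [.mono gN]) = 1 := (QuotientGroup.eq_one_iff _).2 el_gN_mem

theorem mkQ_eq_one_iff {g : ↥Co0} : mkQ g = 1 ↔ g = 1 ∨ g = el [.mono gN] := by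
  constructor
  · intro h
    obtain ⟨n, -, hn, hZ⟩ := Cfsg.Agent.S0399.exists_neg
    have he : n = el [.mono gN] := co0_ext fun v => by rw [hn, el_gN_smul]
    rw [← he]
    exact hZ g ((QuotientGroup.eq_one_iff _).1 h)
  · rintro (rfl | rfl)
    · exact map_one _
    · exact mkQ_gN

theorem mkQ_ne_one_of_movedP {w : List Lt} (h : movedP w = true) : mkQ (el w) ≠ 1 := by
  rw [movedP, Bool.and_eq_true] at h
  intro e
  rcases mkQ_eq_one_iff.1 e with e | e
  · exact el_ne_one_of_movedW h.1 e
  · exact not_neg_of_notNegW h.2 fun v => by rw [e, el_gN_smul]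

theorem mkQ_eq_one_of_sameP {w : List Lt} (h : sameP w = true) : mkQ (el w) = 1 := by
  rw [sameP, Bool.or_eq_true] at h
  rcases h with h | h
  · rw [el_eq_of_sameW h, el_nil, map_one]
  · rw [el_eq_of_sameW h, mkQ_gN]

/-- Elements of the same odd order whose images agree are equal. -/
theorem eq_of_mkQ {a b : ↥Co0} {m : ℕ} (hm : Odd m) (ha : a ^ m = 1) (hb : b ^ m = 1)
    (h : mkQ a = mkQ b) : a = b := by
  obtain ⟨r, hr⟩ := hm
  have hz : mkQ (b⁻¹ * a) = 1 := by rw [map_mul, map_inv, h, inv_mul_cancel]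
  rcases mkQ_eq_one_iff.1 hz with e | e
  · exact (inv_mul_eq_one.1 e).symm
  · exfalso
    have hc := Subgroup.mem_center_iff.1 el_gN_mem b
    have h2 : a = b * el [.mono gN] := by rw [← e, mul_inv_cancel_left]
    have hnn : el [.mono gN] * el [.mono gN] = 1 := co0_ext fun v => by
      rw [mul_smul, el_gN_smul, el_gN_smul, neg_neg, one_smul]
    rw [h2, Commute.mul_pow hc, hb, one_mul, hr, pow_succ, pow_mul, pow_two, hnn, one_pow, one_mul] at ha
    have h8 := el_gN_smul (eightAt (enc.symm 23))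
    rw [ha, one_smul] at h8
    have := congrFun (congrArg Subtype.val h8) (enc.symm 23)
    simp [eightAt] at this

theorem pow_ok : (dblM ^ 11 : ↥M24) = 1 ∧ (shiftM ^ 23 : ↥M24) = 1 := by
  refine ⟨Subtype.ext ?_, Subtype.ext ?_⟩ <;> simp only [SubmonoidClass.coe_pow, OneMemClass.coe_one] <;>
    decide +kernel

theorem dS_pow : dS ^ 11 = 1 ∧ xS ^ 23 = 1 := by
  rw [← map_pow, ← map_pow, pow_ok.1, pow_ok.2, map_one]
  exact ⟨rfl, rfl⟩

/-- Commuting images come from commuting elements. -/
theorem commute_of_mkQ {g a : ↥Co0} {m : ℕ} (hm : Odd m) (ha : a ^ m = 1)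
    (h : mkQ g * mkQ a = mkQ a * mkQ g) : g * a = a * g := by
  have h1 : g * a * g⁻¹ = a := eq_of_mkQ hm (by rw [conj_pow, ha, mul_one, mul_inv_cancel]) ha (by
    rw [map_mul, map_mul, map_inv, h, mul_inv_cancel_right])
  conv_rhs => rw [← h1]
  group

theorem mkQ_cand (k : ℕ) (hk : k < 132) : mkQ (el (cand k)) = mkQ (el (cand (k % 66))) := by
  have h : mkQ (el (nW (k / 66))) = 1 ∧ mkQ (el (nW (k % 66 / 66))) = 1 := by
    refine ⟨?_, ?_⟩
    · rcases (show k / 66 = 0 ∨ k / 66 = 1 by omega) with e | e <;> rw [e]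
      · exact map_one _
      · exact mkQ_gN
    · rw [show k % 66 / 66 = 0 by omega]; exact map_one _
  simp only [cand, el_append, map_mul, h.1, h.2, mul_one]
  rw [show k % 66 % 66 = k % 66 by omega, show k % 66 % 22 = k % 22 by omega,
    show k % 66 % 11 = k % 11 by omega]

/-- An element of the quotient commuting with the doubling map. -/
theorem candQ {q : ↥Co0 ⧸ Subgroup.center ↥Co0} (h : q * mkQ dS = mkQ dS * q) :
    ∃ k < 66, q = mkQ (el (cand k)) := by
  obtain ⟨g, rfl⟩ := QuotientGroup.mk'_surjective (Subgroup.center ↥Co0) q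
  obtain ⟨k, hk, rfl⟩ := exists_cand (commute_of_mkQ (by decide : Odd 11) dS_pow.1 h)
  exact ⟨k % 66, Nat.mod_lt _ (by norm_num), mkQ_cand k hk⟩

theorem mkQ_permHom_injective : Function.Injective (fun π : ↥M24 => mkQ (permHom π)) := by
  intro π τ h
  have h1 : mkQ (permHom (τ⁻¹ * π)) = 1 := by
    simp only at h
    rw [map_mul, map_inv, map_mul, map_inv, h, inv_mul_cancel]
  rcases mkQ_eq_one_iff.1 h1 with e | e
  · exact (inv_mul_eq_one.1 (permHom_injective (e.trans (map_one _).symm))).symm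
  · exfalso
    have h2 := el_gN_smul (eightAt none)
    rw [← e, permHom_eightAt] at h2
    have := congrFun (congrArg Subtype.val h2) none
    simp [eightAt, Pi.single_apply] at this
    split_ifs at this <;> omega

theorem orderOf_mkQ_xS : orderOf (mkQ xS) = 23 := by
  rw [← orderOf_injective ((QuotientGroup.mk' (Subgroup.center ↥Co0)).comp permHom) mkQ_permHom_injective shiftM |>.trans
    (by rw [← shiftE_eq, orderOf_shiftE] : orderOf shiftM = 23)]
  rfl

/-- The centraliser of the translation in the quotient. -/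
theorem centralizer_xQ (q : ↥Co0 ⧸ Subgroup.center ↥Co0) (h : q * mkQ xS = mkQ xS * q) :
    q ∈ Subgroup.zpowers (mkQ xS) := by
  obtain ⟨g, rfl⟩ := QuotientGroup.mk'_surjective (Subgroup.center ↥Co0) q
  have hc := commute_of_mkQ (by decide : Odd 23) dS_pow.2 h
  have key : ∀ g : ↥Co0, g * xS = xS * g → g • eightAt (enc.symm 23) = eightAt (enc.symm 23) →
      mkQ g ∈ Subgroup.zpowers (mkQ xS) := by
    intro g hg hu
    obtain ⟨π, hπ, rfl⟩ := Subgroup.mem_map.1 (Cfsg.Agent.S0399.perm_of_norm g 1 (by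
      rw [zpow_one, shiftE_eq]; exact hg.symm) hu)
    rw [← map_mul, ← map_mul] at hg
    have h1 := permHom_injective hg
    obtain ⟨c, hc⟩ := MathieuOut.eq_pow_shift (σ := (π : Perm GolayPt))
      (congrArg Subtype.val h1)
    rw [show π = shiftM ^ (c : ℕ) from Subtype.ext (by simpa using hc), map_pow, map_pow]
    exact Subgroup.pow_mem _ (Subgroup.mem_zpowers _) _
  have hu : permHom shiftE • (g • eightAt (enc.symm 23)) = g • eightAt (enc.symm 23) := by
    rw [shiftE_eq, ← mul_smul, ← hc, mul_smul, permHom_eightAt,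
      show ((shiftM : ↥M24) : Perm GolayPt) (enc.symm 23) = enc.symm 23 from last_fixed.1]
  rcases shift_fixed hu (by rw [co0_sqNorm]; exact sqNorm_eightAt _) with e | e
  · exact key g hc e
  · have hn := Subgroup.mem_center_iff.1 el_gN_mem
    have h2 := key (g * el [.mono gN]) (by rw [mul_assoc, ← hn, ← mul_assoc, hc, mul_assoc])
      (by rw [mul_smul, el_gN_smul, co0_neg, e, neg_neg])
    rwa [map_mul, mkQ_gN, mul_one] at h2

end Cfsg.Agent.Lib.LeechOut
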