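import Cfsg.Agent.Lib.Leech.CrossMaximal
import Cfsg.Agent.Lib.M24Geom.Pattern
import Cfsg.Agent.Lib.MathieuOut.Gen
import Cfsg.Agent.Lib.LeechOut.Cent
import Cfsg.Agent.Lib.LeechOut.Normalize
import Cfsg.Agent.S0376

/-!
Stabilisers of vectors constant off the last point: centralisers, generation, automorphisms.
-/

set_option autoImplicit false

namespace Cfsg.Agent.Lib.LeechOut

open Cfsg Equiv Cfsg.Agent.Lib.Compute Cfsg.Agent.Lib.Leech MulAction

/-- The last point. -/
abbrev pT : GolayPt := enc.symm 23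

theorem last_fixed : MathieuOut.shift pT = pT ∧ MathieuOut.dbl pT = pT ∧ MathieuOut.ctw pT = pT ∧
    pT = none := by
  decide +kernel

theorem shiftE_eq : shiftE = shiftM := by
  have h : ∀ i : Fin 24, app shiftP i = (enc (MathieuOut.shift (enc.symm i)) : ℕ) := by decide +kernel
  refine Subtype.ext (Equiv.ext fun p => enc.injective (Fin.ext ?_))
  show (enc (Cfsg.Agent.Lib.M24Geom.gperm shiftP p) : ℕ) = _
  rw [Cfsg.Agent.Lib.M24Geom.gperm_apply (Cfsg.Agent.Lib.M24Geom.elemOk_spec (by norm_num) shift_ok.1).1,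
    h, Equiv.symm_apply_apply]

theorem m24_relations : MathieuOut.dbl * MathieuOut.shift * MathieuOut.dbl⁻¹ = MathieuOut.shift ^ 2 ∧
    MathieuOut.ctw * MathieuOut.dbl * MathieuOut.ctw⁻¹ = MathieuOut.dbl ^ 3 := by
  decide +kernel

theorem orderOf_xS : orderOf xS = 23 := by
  rw [orderOf_injective permHom permHom_injective, ← shiftE_eq, orderOf_shiftE]

theorem dS_xS : dS * xS * dS⁻¹ = xS ^ 2 ∧ eS * dS * eS⁻¹ = dS ^ 3 := by
  refine ⟨?_, ?_⟩ <;> rw [← map_mul, ← map_inv, ← map_mul, ← map_pow] <;> refine congrArg permHom ?_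
  · exact Subtype.ext m24_relations.1
  · exact Subtype.ext m24_relations.2

theorem el_inv {w w' : List Lt} (h : sameW (w ++ w') [] = true) : (el w)⁻¹ = el w' := by
  refine inv_eq_of_mul_eq_one_right ?_
  rw [← el_append, el_eq_of_sameW h, el_nil]

theorem el_inv_gX : sameW ([.mono gX] ++ [.mono gXi]) [] = true := by decide +kernel

theorem el_gXi : el [.mono gXi] = xS⁻¹ := by rw [← el_gX, el_inv el_inv_gX]

/-- The vectors considered: constant off the last point. -/
structure Special (v : ↥leechLattice) (l : List ℤ) (s : ℤ) : Prop where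
  const : ∀ q, q ≠ pT → (v : GolayPt → ℤ) q = s
  ne : s ≠ 0
  neLast : (v : GolayPt → ℤ) pT ≠ 0
  list : listOf (v : GolayPt → ℤ) = l

/-- The permutations fixing the last point, inside the stabiliser. -/
noncomputable def permIn {v : ↥leechLattice} {l : List ℤ} {s : ℤ} (hv : Special v l s) :
    ↥(stabilizer ↥M24 pT) →* ↥(stabilizer ↥Co0 v) :=
  MonoidHom.mk' (fun π => ⟨permHom π.1, permHom_fix v hv.const π.2⟩)
    fun π τ => Subtype.ext (map_mul permHom π.1 τ.1)

theorem permIn_injective {v : ↥leechLattice} {l : List ℤ} {s : ℤ} (hv : Special v l s) :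
    Function.Injective (permIn hv) :=
  fun _ _ e => Subtype.ext (permHom_injective (congrArg Subtype.val e))

/-- The translation in the stabiliser of the last point. -/
noncomputable abbrev shiftT : ↥(stabilizer ↥M24 pT) := ⟨shiftM, last_fixed.1⟩

/-- The doubling map in the stabiliser of the last point. -/
noncomputable abbrev dblT : ↥(stabilizer ↥M24 pT) := ⟨dblM, last_fixed.2.1⟩

/-- The cube twist in the stabiliser of the last point. -/
noncomputable abbrev ctwT : ↥(stabilizer ↥M24 pT) := ⟨ctwM, last_fixed.2.2.1⟩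

theorem mem_range_of_fix {v : ↥leechLattice} {l : List ℤ} {s : ℤ} (hv : Special v l s)
    (g : ↥(stabilizer ↥Co0 v)) (j : ℕ) (h : xS * (g : ↥Co0) = (g : ↥Co0) * xS ^ j) :
    g ∈ (permIn hv).range := by
  have hu : permHom shiftE • ((g : ↥Co0) • eightAt pT) = (g : ↥Co0) • eightAt pT := by
    rw [shiftE_eq, ← mul_smul, h, mul_smul, ← map_pow, permHom_eightAt]
    have hk : ((shiftM ^ j : ↥M24) : Perm GolayPt) pT = pT :=
      (Subgroup.pow_mem (stabilizer ↥M24 pT) (show shiftM ∈ stabilizer ↥M24 pT from last_fixed.1) j)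
    rw [hk]
  obtain ⟨π, hπ, hg⟩ := Subgroup.mem_map.1
    (mem_map_of_fix (g : ↥Co0) pT v hv.ne hv.const (shift_uniq g.2 hv.neLast hu) g.2)
  exact ⟨⟨π, hπ⟩, Subtype.ext hg⟩

theorem centralizer_x {v : ↥leechLattice} {l : List ℤ} {s : ℤ} (hv : Special v l s)
    (g : ↥(stabilizer ↥Co0 v)) (h : g * permIn hv shiftT = permIn hv shiftT * g) :
    g ∈ Subgroup.zpowers (permIn hv shiftT) := by
  obtain ⟨π, rfl⟩ := mem_range_of_fix hv g 1 (by
    rw [pow_one]; exact (congrArg Subtype.val h).symm)
  rw [← map_mul, ← map_mul] at h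
  have h1 := permIn_injective hv h
  obtain ⟨c, hc⟩ := MathieuOut.eq_pow_shift (σ := (π.1 : Perm GolayPt))
    (congrArg (fun z : ↥(stabilizer ↥M24 pT) => ((z : ↥M24) : Perm GolayPt)) h1)
  rw [show π = shiftT ^ (c : ℕ) from Subtype.ext (Subtype.ext (by simpa using hc)), map_pow]
  exact Subgroup.pow_mem _ (Subgroup.mem_zpowers _) _

theorem closure_stab : Subgroup.closure ({shiftT, ctwT} : Set ↥(stabilizer ↥M24 pT)) = ⊤ := by
  rw [eq_top_iff]
  intro π _
  let ι : ↥(stabilizer ↥M24 pT) →* Perm GolayPt := M24.subtype.comp (stabilizer ↥M24 pT).subtype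
  have hπ : ι π ∈ Spor.M23 := by
    refine ⟨π.1.2, ?_⟩
    show (π.1 : Perm GolayPt) none = none
    rw [← last_fixed.2.2.2]
    exact π.2
  rw [← MathieuOut.closure_M23] at hπ
  have himg : ({MathieuOut.shift, MathieuOut.ctw} : Set (Perm GolayPt)) = ι '' {shiftT, ctwT} := by
    rw [Set.image_pair]; rfl
  rw [himg, ← MonoidHom.map_closure] at hπ
  obtain ⟨z, hz, hze⟩ := hπ
  rw [show π = z from Subtype.ext (Subtype.ext hze.symm)]
  exact hz

/-- The masks of the levels of a vector. -/
def levelMasks (l : List ℤ) : List (ℕ × ℕ) :=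
  l.eraseDups.map fun t =>
    (Nat.ofBits fun i : Fin 24 => l.getD i 0 == t, Nat.ofBits fun i : Fin 24 => l.getD i 0 == t)

theorem card_stab_le (y : ↥leechLattice) {l : List ℤ} (hl : listOf (y : GolayPt → ℤ) = l) {B : ℕ}
    (hB : Cfsg.Agent.Lib.M24Geom.patternCount 24 [(23, 23)] (levelMasks l) m24Cert id ≤ B) :
    Nat.card {π : ↥(stabilizer ↥M24 pT) // permHom π.1 • y = y} ≤ B := by
  rw [← Cfsg.Agent.Lib.M24Geom.card_pointFits] at hB
  have hfit : ∀ π : {π : ↥(stabilizer ↥M24 pT) // permHom π.1 • y = y},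
      Cfsg.Agent.Lib.M24Geom.PointFits [(23, 23)] (levelMasks l) (π.1.1 : Perm GolayPt) := by
    intro π
    refine ⟨?_, ?_⟩
    · intro e he p hp
      rw [List.mem_singleton] at he
      subst he
      have : p = pT := enc.injective (Fin.ext (by rw [Equiv.apply_symm_apply]; exact hp))
      subst this
      rw [show (π.1.1 : Perm GolayPt) pT = pT from π.1.2, Equiv.apply_symm_apply]
      rfl
    · intro e he p
      obtain ⟨t, -, rfl⟩ := List.mem_map.1 he
      simp only [mem_setOf24, Nat.testBit_ofBits, Fin.is_lt, dif_pos, Fin.eta, beq_iff_eq]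
      rw [← hl, listOf_getD, listOf_getD, Equiv.symm_apply_apply, Equiv.symm_apply_apply,
        apply_eq_of_fixed π.2]
  refine le_trans (Nat.card_le_card_of_injective
    (fun π : {π : ↥(stabilizer ↥M24 pT) // permHom π.1 • y = y} =>
      (⟨(π.1.1 : Perm GolayPt), π.1.1.2, hfit π⟩ :
        {σ : Perm GolayPt // σ ∈ M24 ∧ Cfsg.Agent.Lib.M24Geom.PointFits [(23, 23)] (levelMasks l) σ})) ?_) hB
  intro a b e
  have e' := Subtype.ext_iff.1 e
  exact Subtype.ext (Subtype.ext (Subtype.ext e'))

/-- The level sets of the first five points bound a stabiliser. -/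
theorem card_stab_le_five (y : ↥leechLattice) {l : List ℤ} (hl : listOf (y : GolayPt → ℤ) = l) {B : ℕ}
    (hB : (∏ i : Fin 5, (Finset.univ.filter fun q : Fin 24 => l.getD q 0 = l.getD i 0).card) * 3 ≤ B) :
    Nat.card {π : ↥(stabilizer ↥M24 pT) // permHom π.1 • y = y} ≤ B := by
  classical
  letI : MulAction ↥(stabilizer ↥M24 pT) ↥leechLattice :=
    MulAction.compHom _ (permHom.comp (stabilizer ↥M24 pT).subtype)
  let S := MulAction.stabilizer ↥(stabilizer ↥M24 pT) y
  let t0 : Fin 5 → GolayPt := fun i => enc.symm ⟨i, by omega⟩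
  refine le_trans (le_of_eq ((Nat.card_congr (Equiv.subtypeEquivRight fun π => Iff.rfl) :
    Nat.card {π : ↥(stabilizer ↥M24 pT) // permHom π.1 • y = y} = Nat.card ↥S).trans
    (card_orbit_mul (G := ↥S) t0).symm)) (le_trans (Nat.mul_le_mul ?_ ?_) hB)
  · rw [← Finset.card_map ⟨fun f i => enc.symm (f i), fun f f' e => funext fun i =>
        enc.symm.injective (congrFun e i)⟩ |>.trans (Fintype.card_piFinset
          fun i : Fin 5 => Finset.univ.filter fun q : Fin 24 => l.getD q 0 = l.getD i 0),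
      ← Set.ncard_coe_finset]
    refine Set.ncard_le_ncard ?_ (Finset.finite_toSet _)
    rintro _ ⟨g, rfl⟩
    rw [Finset.mem_coe, Finset.mem_map]
    refine ⟨fun i => enc (((g.1.1 : ↥M24) : Perm GolayPt) (t0 i)), ?_, funext fun i => enc.symm_apply_apply _⟩
    rw [Fintype.mem_piFinset]
    intro i
    rw [Finset.mem_filter]
    refine ⟨Finset.mem_univ _, ?_⟩
    have h := apply_eq_of_fixed (show permHom g.1.1 • y = y from g.2) (t0 i)
    rw [← hl, listOf_getD, Equiv.symm_apply_apply]
    exact h.trans (listOf_getD (y : GolayPt → ℤ) ⟨i, by omega⟩).symm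
  · rw [show (3 : ℕ) = Cfsg.Agent.Lib.M24Geom.patternCount 24
      [(0, 0), (1, 1), (2, 2), (3, 3), (4, 4), (23, 23)] [] m24Cert id by decide +kernel,
      ← Cfsg.Agent.Lib.M24Geom.card_pointFits]
    have hfit : ∀ π : ↥(MulAction.stabilizer ↥S t0), Cfsg.Agent.Lib.M24Geom.PointFits
        [(0, 0), (1, 1), (2, 2), (3, 3), (4, 4), (23, 23)] [] ((π.1.1.1 : ↥M24) : Perm GolayPt) := by
      intro π
      refine ⟨fun e he p hp => ?_, fun e he => absurd he List.not_mem_nil⟩
      have hfix : ∀ i : Fin 5, ((π.1.1.1 : ↥M24) : Perm GolayPt) (t0 i) = t0 i := fun i => congrFun π.2 i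
      have hp' : ∀ k : Fin 24, (k : ℕ) = e.1 → ((π.1.1.1 : ↥M24) : Perm GolayPt) (enc.symm k) = enc.symm k →
          (enc (((π.1.1.1 : ↥M24) : Perm GolayPt) p) : ℕ) = e.1 := by
        intro k hk hk'
        obtain rfl : p = enc.symm k :=
          enc.injective (Fin.ext (by rw [Equiv.apply_symm_apply, hk]; exact hp))
        rw [hk', Equiv.apply_symm_apply, hk]
      simp only [List.mem_cons, List.not_mem_nil, or_false] at he
      rcases he with rfl | rfl | rfl | rfl | rfl | rfl
      exacts [hp' _ rfl (hfix 0), hp' _ rfl (hfix 1), hp' _ rfl (hfix 2), hp' _ rfl (hfix 3), hp' _ rfl (hfix 4),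
        hp' 23 rfl π.1.1.2]
    refine Nat.card_le_card_of_injective (fun π : ↥(MulAction.stabilizer ↥S t0) =>
      (⟨((π.1.1.1 : ↥M24) : Perm GolayPt), π.1.1.1.2, hfit π⟩ : {σ : Perm GolayPt // σ ∈ M24 ∧
        Cfsg.Agent.Lib.M24Geom.PointFits [(0, 0), (1, 1), (2, 2), (3, 3), (4, 4), (23, 23)] [] σ})) ?_
    intro a b e
    have e' := Subtype.ext_iff.1 e
    exact Subtype.ext (Subtype.ext (Subtype.ext (Subtype.ext e')))

/-- Generation by the permutations and elements moving the last frame vector far. -/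
theorem eq_top_of_orbit {v : ↥leechLattice} {l : List ℤ} {s : ℤ} (hv : Special v l s) {n B : ℕ}
    (hn : Nat.card ↥(stabilizer ↥Co0 v) = n) (hn23 : ¬ 23 ^ 2 ∣ n)
    (H : Subgroup ↥(stabilizer ↥Co0 v)) (hH : (permIn hv).range ≤ H) {w : List Lt}
    (hw : w.all Lt.good = true) (g : ↥(stabilizer ↥Co0 v)) (hg : (g : ↥Co0) = el w) (hgH : g ∈ H)
    (hB : ∀ y : ↥leechLattice, listOf (y : GolayPt → ℤ) = actW w (unitL 8 23) →
      Nat.card {π : ↥(stabilizer ↥M24 pT) // permHom π.1 • y = y} ≤ B)
    (hbig : n * B < 24 * (10200960 * 10200960)) : H = ⊤ := by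
  haveI := finite_co0
  haveI : Fact (Nat.Prime 23) := ⟨by norm_num⟩
  set x := permIn hv shiftT with hx
  have hxH : x ∈ H := hH ⟨_, rfl⟩
  have hxo : orderOf x = 23 := by
    rw [← Subgroup.orderOf_coe]
    exact orderOf_xS
  -- the number of cosets is 1 modulo 23
  letI : MulAction ↥(Subgroup.zpowers x) (↥(stabilizer ↥Co0 v) ⧸ H) :=
    MulAction.compHom _ (Subgroup.zpowers x).subtype
  have hP : IsPGroup 23 ↥(Subgroup.zpowers x) := IsPGroup.of_card (n := 1) (by
    rw [Nat.card_zpowers, hxo, pow_one])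
  have hfix : MulAction.fixedPoints ↥(Subgroup.zpowers x) (↥(stabilizer ↥Co0 v) ⧸ H) = {QuotientGroup.mk 1} := by
    ext q
    induction q using QuotientGroup.induction_on with
    | _ a =>
      simp only [MulAction.mem_fixedPoints, Set.mem_singleton_iff]
      constructor
      · intro h
        have h1 : a⁻¹ * x * a ∈ H := by
          have h2 := h ⟨x, Subgroup.mem_zpowers x⟩
          change (QuotientGroup.mk (x * a) : ↥(stabilizer ↥Co0 v) ⧸ H) = QuotientGroup.mk a at h2
          rw [QuotientGroup.eq] at h2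
          have h3 := inv_mem h2
          rwa [mul_inv_rev, inv_inv, ← mul_assoc] at h3
        -- move it into the cyclic group by Sylow
        have hfac : (Nat.card H).factorization 23 = 1 := by
          have h2 : 23 ∣ Nat.card H := by
            rw [← hxo, ← Subgroup.orderOf_mk x hxH]
            exact orderOf_dvd_natCard _
          have h0 : Nat.card H ≠ 0 := Nat.card_pos.ne'
          have := (Nat.Prime.dvd_iff_one_le_factorization (Fact.out) h0).mp h2
          by_contra hne
          exact hn23 (hn ▸ ((Nat.Prime.pow_dvd_iff_le_factorization (Fact.out) h0).mpr (by omega)).trans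
            (Subgroup.card_subgroup_dvd_card H))
        set x1 : H := ⟨x, hxH⟩
        set x2 : H := ⟨a⁻¹ * x * a, h1⟩
        have hx1 : orderOf x1 = 23 := by rw [Subgroup.orderOf_mk]; exact hxo
        have hx2 : orderOf x2 = 23 := by
          rw [Subgroup.orderOf_mk, show a⁻¹ * x * a = MulAut.conj a⁻¹ x by simp [MulAut.conj_apply],
            MulEquiv.orderOf_eq, hxo]
        let P : Sylow 23 H := Sylow.ofCard (Subgroup.zpowers x1) (by rw [Nat.card_zpowers, hx1, hfac, pow_one])
        let Q : Sylow 23 H := Sylow.ofCard (Subgroup.zpowers x2) (by rw [Nat.card_zpowers, hx2, hfac, pow_one])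
        obtain ⟨b, hb⟩ := MulAction.exists_smul_eq H Q P
        have hmem : b * x2 * b⁻¹ ∈ Subgroup.zpowers x1 := by
          have : (P : Subgroup H) = Subgroup.zpowers x1 := rfl
          rw [← this, ← hb, Sylow.coe_subgroup_smul]
          exact ⟨x2, Subgroup.mem_zpowers _, rfl⟩
        obtain ⟨k, hk⟩ : ∃ k : ℕ, x1 ^ k = b * x2 * b⁻¹ :=
          (IsOfFinOrder.mem_powers_iff_mem_zpowers (isOfFinOrder_of_finite x1)).mpr hmem
        have hrel : x * (a * (b : ↥(stabilizer ↥Co0 v))⁻¹) = (a * (b : ↥(stabilizer ↥Co0 v))⁻¹) * x ^ k := by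
          have e := congrArg (fun z : H => (z : ↥(stabilizer ↥Co0 v))) hk
          simp only [Subgroup.coe_pow, Subgroup.coe_mul, Subgroup.coe_inv, x1, x2] at e
          rw [e]; group
        have hab := hH (mem_range_of_fix hv (a * (b : ↥(stabilizer ↥Co0 v))⁻¹) k (by
          have e := congrArg (fun z : ↥(stabilizer ↥Co0 v) => (z : ↥Co0)) hrel
          simp only [Subgroup.coe_mul, Subgroup.coe_pow] at e
          rw [show ((x : ↥(stabilizer ↥Co0 v)) : ↥Co0) = xS from rfl] at e
          exact e))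
        rw [QuotientGroup.eq, mul_one]
        have h4 := inv_mem (mul_mem hab b.2)
        rwa [inv_mul_cancel_right] at h4
      · intro h g'
        rw [h]
        change (QuotientGroup.mk ((g' : ↥(stabilizer ↥Co0 v)) * 1) : ↥(stabilizer ↥Co0 v) ⧸ H) = QuotientGroup.mk 1
        rw [QuotientGroup.eq, mul_one, mul_one]
        exact inv_mem ((Subgroup.zpowers_le.2 hxH) g'.2)
  have hmod := hP.card_modEq_card_fixedPoints (↥(stabilizer ↥Co0 v) ⧸ H)
  rw [hfix, Nat.card_eq_one_iff_unique.2 ⟨Set.subsingleton_coe _ |>.2 Set.subsingleton_singleton, ⟨⟨_, rfl⟩⟩⟩] at hmod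
  -- the orbit of the last frame vector
  set u := eightAt pT with hu
  set y := (g : ↥Co0) • u with hy
  have hl : listOf (y : GolayPt → ℤ) = actW w (unitL 8 23) := by
    rw [hy, hg, el_spec hw, hu, listOf_eightAt]
    rfl
  have hstab := hB y hl
  have hM : Nat.card ↥(stabilizer ↥M24 pT) = 10200960 := Cfsg.Agent.S0376.result _
  letI : MulAction ↥(stabilizer ↥M24 pT) ↥leechLattice :=
    MulAction.compHom _ (permHom.comp (stabilizer ↥M24 pT).subtype)
  have horb : (MulAction.orbit ↥(stabilizer ↥M24 pT) y).ncard * B ≥ 10200960 := by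
    have h := card_orbit_mul (G := ↥(stabilizer ↥M24 pT)) y
    rw [hM] at h
    have hs : Nat.card ↥(MulAction.stabilizer ↥(stabilizer ↥M24 pT) y) ≤ B := le_of_eq_of_le
      (Nat.card_congr (Equiv.subtypeEquivRight fun π => Iff.rfl)) hstab
    calc 10200960 = _ := h.symm
      _ ≤ _ := Nat.mul_le_mul_left _ hs
  haveI hfinG : Finite ↥(stabilizer ↥Co0 v) := inferInstance
  have hfin : (MulAction.orbit ↥H u).Finite := Set.finite_range _
  have hsub : MulAction.orbit ↥(stabilizer ↥M24 pT) y ⊆ MulAction.orbit ↥H u := by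
    rintro _ ⟨π, rfl⟩
    refine ⟨⟨permIn hv π * g, mul_mem (hH ⟨π, rfl⟩) hgH⟩, ?_⟩
    show ((permHom π.1 * (g : ↥Co0)) • u) = permHom π.1 • y
    rw [mul_smul]
  have hstabH : 10200960 ≤ Nat.card ↥(MulAction.stabilizer ↥H u) := by
    rw [← hM]
    refine Nat.card_le_card_of_injective (fun π => ⟨⟨permIn hv π, hH ⟨π, rfl⟩⟩, ?_⟩) ?_
    · show permHom π.1 • u = u
      rw [hu, permHom_eightAt, show (π.1 : Perm GolayPt) pT = pT from π.2]
    · intro a b e
      exact permIn_injective hv (congrArg (fun z => ((z : ↥H) : ↥(stabilizer ↥Co0 v)))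
        (congrArg Subtype.val e))
  have hcard := card_orbit_mul (G := ↥H) u
  have hk := Set.ncard_le_ncard hsub hfin
  have h1 : 10200960 * 10200960 ≤ Nat.card H * B := by
    calc 10200960 * 10200960 ≤ ((MulAction.orbit ↥H u).ncard * B) * Nat.card ↥(MulAction.stabilizer ↥H u) :=
          Nat.mul_le_mul (horb.trans (Nat.mul_le_mul_right _ hk)) hstabH
      _ = Nat.card H * B := by rw [← hcard]; ring
  have hmul := H.card_mul_index
  rw [hn] at hmul
  have hlt : H.index < 24 := by
    by_contra hge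
    have h2 : 24 * (10200960 * 10200960) ≤ n * B := by
      calc 24 * (10200960 * 10200960) ≤ H.index * (Nat.card H * B) :=
            Nat.mul_le_mul (Nat.le_of_not_lt hge) h1
        _ = n * B := by rw [← hmul]; ring
    omega
  have hidx : H.index = 1 := by
    have h2 : H.index % 23 = 1 := hmod
    omega
  exact Subgroup.index_eq_one.1 hidx

/-- The relation killing the centraliser. -/
def RelEl {G : Type*} [Group G] (a b : G) : Prop := (a ^ 5 * b * b) ^ 4 = 1 ∧ (a * b) ^ 6 = 1

/-- The words of the relation. -/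
def relWords (inv : Bool) (c : List Lt) : List (List Lt) :=
  [(List.replicate 4 ([Lt.mono (if inv then gXi5 else gX5)] ++ ([Lt.mono gE] ++ c) ++ ([Lt.mono gE] ++ c))).flatten,
   (List.replicate 6 ([Lt.mono (if inv then gXi else gX)] ++ ([Lt.mono gE] ++ c))).flatten]

theorem five_ok : sameW [.mono gX5] (List.replicate 5 [Lt.mono gX]).flatten = true ∧
    sameW [.mono gXi5] (List.replicate 5 [Lt.mono gXi]).flatten = true ∧
    sameW (relWords false []).head! [] = true ∧
    sameW ((relWords false []).getD 1 []) [] = true := by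
  decide +kernel

theorem relWords_eq (inv : Bool) (c : List Lt) (h : RelEl (if inv then xS⁻¹ else xS) (eS * el c)) :
    ∀ w ∈ relWords inv c, el w = 1 := by
  intro w hw
  simp only [relWords, List.mem_cons, List.not_mem_nil, or_false] at hw
  cases inv
  · have h5 : el [.mono gX5] = xS ^ 5 := by rw [el_eq_of_sameW five_ok.1, ← el_pow, el_gX]
    rcases hw with rfl | rfl <;> rw [← el_pow] <;>
      simp only [el_append, el_gE, Bool.false_eq_true, if_false, h5, el_gX]
    · exact h.1
    · exact h.2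
  · have h5 : el [.mono gXi5] = xS⁻¹ ^ 5 := by rw [el_eq_of_sameW five_ok.2.1, ← el_pow, el_gXi]
    rcases hw with rfl | rfl <;> rw [← el_pow] <;>
      simp only [el_append, el_gE, if_true, h5, el_gXi]
    · exact h.1
    · exact h.2

theorem rel_base : RelEl xS eS := by
  obtain ⟨-, -, h1, h2⟩ := five_ok
  have h5 : el [.mono gX5] = xS ^ 5 := by rw [el_eq_of_sameW five_ok.1, ← el_pow, el_gX]
  have e1 := el_eq_of_sameW h1
  have e2 := el_eq_of_sameW h2
  simp only [relWords, List.head!_cons, Bool.false_eq_true, if_false, List.getD_cons_succ,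
    List.getD_cons_zero] at e1 e2
  simp only [← el_pow, el_append, el_gE, h5, el_gX, el_nil, mul_one] at e1 e2
  exact ⟨e1, e2⟩

/-- The check killing the centraliser. -/
def killOk (l : List ℤ) (k : ℕ) : Bool :=
  !fixesW (cand k) l || (((k == 0) || (relWords false (cand k)).reverse.any movedW) && (relWords true (cand k)).reverse.any movedW)

theorem cand_zero : sameW (cand 0) [] = true := by decide +kernel

theorem cand_fix {v : ↥leechLattice} {l : List ℤ} {s : ℤ} (hv : Special v l s)
    {h : ↥(stabilizer ↥Co0 v)} (hcomm : h * permIn hv dblT = permIn hv dblT * h) :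
    ∃ k < 132, (h : ↥Co0) = el (cand k) ∧ fixesW (cand k) l = true := by
  obtain ⟨k, hk, hk'⟩ := exists_cand (congrArg Subtype.val hcomm)
  refine ⟨k, hk, hk', (smul_eq_iff_fixesW ?_ v hv.list).1 ?_⟩
  · exact List.all_eq_true.1 cand_good k (List.mem_range.2 hk)
  · rw [← hk']; exact h.2

/-- Automorphisms of a stabiliser fix the three permutations up to an inner one. -/
theorem exists_fix_perms {v : ↥leechLattice} {l : List ℤ} {s : ℤ} (hv : Special v l s)
    (hn23 : ¬ 23 ^ 2 ∣ Nat.card ↥(stabilizer ↥Co0 v))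
    (hk : (List.range 132).all (killOk l) = true) (φ : MulAut ↥(stabilizer ↥Co0 v)) :
    ∃ g, g * φ (permIn hv shiftT) * g⁻¹ = permIn hv shiftT ∧ g * φ (permIn hv dblT) * g⁻¹ = permIn hv dblT ∧
      g * φ (permIn hv ctwT) * g⁻¹ = permIn hv ctwT := by
  haveI := finite_co0
  have coe_rel : ∀ a b : ↥(stabilizer ↥Co0 v), RelEl a b → RelEl (a : ↥Co0) (b : ↥Co0) := fun a b h => by
    obtain ⟨h1, h2⟩ := h
    exact ⟨by simpa using congrArg Subtype.val h1, by simpa using congrArg Subtype.val h2⟩
  refine exists_fix_three (R := RelEl) ?_ hn23 ?_ ?_ (centralizer_x hv) ?_ ?_ ?_ ?_ φ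
  · rw [← Subgroup.orderOf_coe]; exact orderOf_xS
  · exact Subtype.ext dS_xS.1
  · exact Subtype.ext dS_xS.2
  · intro f a b h
    exact ⟨by rw [← map_pow f a 5, ← map_mul, ← map_mul, ← map_pow, h.1, map_one],
      by rw [← map_mul, ← map_pow, h.2, map_one]⟩
  · exact ⟨Subtype.ext rel_base.1, Subtype.ext rel_base.2⟩
  · intro h hcomm hR
    obtain ⟨k, hk132, hke, hkf⟩ := cand_fix hv hcomm
    have h1 := List.all_eq_true.1 hk k (List.mem_range.2 hk132)
    simp only [killOk, hkf, Bool.not_true, Bool.false_or, Bool.and_eq_true, Bool.or_eq_true,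
      beq_iff_eq, List.any_eq_true, List.mem_reverse] at h1
    rcases h1.1 with rfl | ⟨w, hw, hmv⟩
    · exact Subtype.ext (hke.trans ((el_eq_of_sameW cand_zero).trans el_nil))
    · exfalso
      refine el_ne_one_of_movedW hmv (relWords_eq false _ ?_ w hw)
      have h2 := coe_rel _ _ hR
      rw [Subgroup.coe_mul, hke] at h2
      exact h2
  · intro h hcomm hR
    obtain ⟨k, hk132, hke, hkf⟩ := cand_fix hv hcomm
    have h1 := List.all_eq_true.1 hk k (List.mem_range.2 hk132)
    simp only [killOk, hkf, Bool.not_true, Bool.false_or, Bool.and_eq_true, List.any_eq_true, List.mem_reverse] at h1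
    obtain ⟨w, hw, hmv⟩ := h1.2
    refine el_ne_one_of_movedW hmv (relWords_eq true _ ?_ w hw)
    have h2 := coe_rel _ _ hR
    rw [Subgroup.coe_mul, Subgroup.coe_inv, hke] at h2
    exact h2

/-- An automorphism fixing the permutations and one further generator is inner. -/
theorem inner_of_fix {v : ↥leechLattice} {l : List ℤ} {s : ℤ} (hv : Special v l s)
    (t : ↥(stabilizer ↥Co0 v))
    (htop : ∀ H : Subgroup ↥(stabilizer ↥Co0 v), (permIn hv).range ≤ H → t ∈ H → H = ⊤)
    (φ : MulAut ↥(stabilizer ↥Co0 v)) (g : ↥(stabilizer ↥Co0 v))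
    (hx : g * φ (permIn hv shiftT) * g⁻¹ = permIn hv shiftT)
    (he : g * φ (permIn hv ctwT) * g⁻¹ = permIn hv ctwT) (ht : g * φ t * g⁻¹ = t) :
    φ ∈ Cfsg.Inn ↥(stabilizer ↥Co0 v) := by
  refine MathieuOut.mem_inn_of_closure (S := {permIn hv shiftT, permIn hv ctwT, t}) (htop _ ?_ ?_) φ g ?_
  · rw [MonoidHom.range_eq_map, ← closure_stab, MonoidHom.map_closure, Set.image_pair]
    exact Subgroup.closure_mono (by
      rintro z (rfl | rfl)
      · exact Set.mem_insert _ _
      · exact Set.mem_insert_of_mem _ (Set.mem_insert _ _))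
  · exact Subgroup.subset_closure (Set.mem_insert_of_mem _ (Set.mem_insert_of_mem _ rfl))
  · rintro z (rfl | rfl | rfl)
    exacts [hx, he, ht]

end Cfsg.Agent.Lib.LeechOut
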